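import Groth.Agent.KEulerLib.E

/-!
# The Euler characteristic of a Koszul complex is the iterated difference
-/

set_option autoImplicit false
set_option linter.unusedSectionVars false
set_option linter.style.haveILetI false
set_option backward.isDefEq.respectTransparency false
universe u

open CategoryTheory CategoryTheory.Limits CochainComplex

noncomputable section

namespace Groth.Agent.KEulerLib

open Groth.Agent.KoszulCech Groth.Agent.LocCohLib CohIII

variable {A : Type u} [CommRing A] (M : ModuleCat.{u} A)

/-- Koszul cohomology with coefficients. -/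
abbrev HK (l : List A) (i : ℤ) : ModuleCat.{u} A := (koszulCx M l).homology i

theorem subsingleton_HK (l : List A) (i : ℤ) (h : 0 < i ∨ i < -(l.length : ℤ)) : Subsingleton (HK M l i) := by
  haveI := subsingleton_X M l i h
  haveI : Subsingleton (Zmod (koszulCx M l) i) := inferInstance
  exact (cls_surjective (koszulCx M l) i).subsingleton

def HKnilEquiv : HK M ([] : List A) 0 ≃ₗ[A] M :=
  (HomologicalComplex.singleObjHomologySelfIso (ComplexShape.up ℤ) 0 M).toLinearEquiv

theorem finite_HK [IsNoetherianRing A] [Module.Finite A M] : ∀ (l : List A) (i : ℤ), Module.Finite A (HK M l i)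
  | [], i => by
    rcases eq_or_ne i 0 with rfl | hi
    · exact Module.Finite.equiv (HKnilEquiv M).symm
    · haveI := subsingleton_HK M [] i (by simp; omega)
      infer_instance
  | f :: t, i => finite_cone f (koszulCx M t) (finite_HK t) i

theorem smul_X_eq_zero {a : A} (ha : a ∈ Module.annihilator A M) : ∀ (l : List A) (i : ℤ)
    (x : (koszulCx M l).X i), a • x = 0
  | [], i, x => by
    rcases eq_or_ne i 0 with rfl | hi
    · let e := (HomologicalComplex.singleObjXSelf (ComplexShape.up ℤ) 0 M).toLinearEquiv
      exact e.injective ((map_smul e a x).trans ((Module.mem_annihilator.mp ha _).trans (map_zero e).symm))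
    · haveI := subsingleton_X M ([] : List A) i (by simp; omega)
      exact Subsingleton.elim _ _
  | f :: t, i, x => cone_ext (f • 𝟙 (koszulCx M t)) (rfl : i + 1 = i + 1)
      ((map_smul _ a x).trans ((smul_X_eq_zero ha t (i + 1) _).trans (map_zero _).symm))
      ((map_smul _ a x).trans ((smul_X_eq_zero ha t i _).trans (map_zero _).symm))

theorem smul_HK_eq_zero_of_annihilator {a : A} (ha : a ∈ Module.annihilator A M) (l : List A) (i : ℤ) (y : HK M l i) :
    a • y = 0 := by
  obtain ⟨z, rfl⟩ := cls_surjective (koszulCx M l) i y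
  rw [← map_smul, show a • z = 0 from Subtype.ext (smul_X_eq_zero M ha l i z.1), map_zero]

theorem smul_HK_eq_zero_of_mem {a : A} {l : List A} (ha : a ∈ Ideal.ofList l) (i : ℤ) (y : HK M l i) : a • y = 0 := by
  obtain ⟨H⟩ := nonempty_homotopy_smul M l a ha
  obtain ⟨h, e⟩ := exists_family_of_homotopy H
  obtain ⟨z, rfl⟩ := cls_surjective (koszulCx M l) i y
  rw [← map_smul, cls_eq_zero (i := i - 1) (by omega)]
  refine ⟨h i (i - 1) (by omega) z.1, ?_⟩
  have h1 := e i (i - 1) (i + 1) (by omega) rfl z.1
  rw [smulId_f_apply, zmod_d rfl z, map_zero, zero_add] at h1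
  exact h1.symm

theorem mem_support_HK [IsNoetherianRing A] [Module.Finite A M] {l : List A} {i : ℤ} {p : PrimeSpectrum A}
    (hp : p ∈ Module.support A (HK M l i)) : p ∈ Module.support A M ∧ Ideal.ofList l ≤ p.asIdeal := by
  haveI := finite_HK M l i
  exact ⟨Module.mem_support_iff_of_finite.mpr fun a ha =>
      mem_of_mem_support_of_smul_eq_zero (smul_HK_eq_zero_of_annihilator M ha l i) hp,
    fun a ha => mem_of_mem_support_of_smul_eq_zero (smul_HK_eq_zero_of_mem M ha i) hp⟩

theorem dom_HK [IsNoetherianRing A] [Module.Finite A M] {l r : List A} (h : Dom (l ++ r) M) (i : ℤ) :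
    Dom r (HK M l i) := fun p hp hr => by
  obtain ⟨h1, h2⟩ := mem_support_HK M hp
  refine h p h1 (ofList_le_iff.mpr fun a ha => ?_)
  rcases List.mem_append.mp ha with ha | ha
  · exact ofList_le_iff.mp h2 a ha
  · exact ofList_le_iff.mp hr a ha

theorem length_HK_ne_top [IsNoetherianRing A] [Module.Finite A M] {l : List A} (h : Dom l M) (i : ℤ) :
    Module.length A (HK M l i) ≠ ⊤ := by
  haveI := finite_HK M l i
  exact length_ne_top_of_dom (dom_HK M (by rwa [List.append_nil]) i)

theorem E_HK_cons [IsNoetherianRing A] [Module.Finite A M] (f : A) (t r : List A) (h : Dom ((f :: t) ++ r) M) (i : ℤ) :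
    E r (HK M (f :: t) i) = E r (HK M t i ⧸ srange f (HK M t i)) + E r (sker f (HK M t (i + 1))) := by
  obtain ⟨u, v, hu, huv, hv⟩ := exists_cone_seq f (koszulCx M t) (rfl : i + 1 = i + 1)
  haveI := finite_HK M (f :: t) i
  have hle : srange f ((koszulCx M t).homology i) ≤ LinearMap.ker u := hu.ge
  rw [E_add (N₂ := HK M (f :: t) i) (dom_HK M h i) (Submodule.liftQ _ u hle) v.rangeRestrict ?_
    (LinearMap.surjective_rangeRestrict v) ?_, E_congr r (LinearEquiv.ofEq _ _ hv)]
  · rw [← LinearMap.ker_eq_bot, Submodule.ker_liftQ, hu, Submodule.mkQ_map_self]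
  · rw [LinearMap.exact_iff, LinearMap.ker_rangeRestrict, Submodule.range_liftQ]
    exact huv.linearMap_ker_eq

theorem finite_support_E (l r : List A) : (Function.support fun i : ℤ => E r (HK M l i)).Finite := by
  refine (Set.finite_Icc (-(l.length : ℤ)) 0).subset fun i hi => ?_
  by_contra hne
  haveI := subsingleton_HK M l i (by
    simp only [Set.mem_Icc, not_and_or, not_le] at hne
    exact hne.symm)
  exact hi (E_subsingleton r _)

theorem finsum_E [IsNoetherianRing A] [Module.Finite A M] : ∀ l r : List A, Dom (l ++ r) M →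
    (∑ᶠ i : ℤ, ((i.negOnePow : ℤˣ) : ℤ) * E r (HK M l i)) = E (l.reverse ++ r) M
  | [], r, _ => by
    rw [finsum_eq_single _ (0 : ℤ) fun i hi => by
      haveI := subsingleton_HK M [] i (by simp; omega)
      rw [E_subsingleton r, mul_zero]]
    rw [Int.negOnePow_zero, E_congr r (HKnilEquiv M)]
    simp
  | f :: t, r, h => by
    have hperm : Dom (t ++ f :: r) M := h.mono fun a ha => by
      simp only [List.mem_append, List.mem_cons] at ha ⊢
      tauto
    have ih := finsum_E t (f :: r) hperm
    set g1 : ℤ → ℤ := fun i => ((i.negOnePow : ℤˣ) : ℤ) * E r (HK M t i ⧸ srange f (HK M t i)) with hg1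
    set g2 : ℤ → ℤ := fun i => ((i.negOnePow : ℤˣ) : ℤ) * E r (sker f (HK M t i)) with hg2
    have hs : ∀ g : ℤ → ℤ, (∀ i, Subsingleton (HK M t i) → g i = 0) → (Function.support g).Finite := fun g hg => by
      refine (Set.finite_Icc (-(t.length : ℤ)) 0).subset fun i hi => ?_
      by_contra hne
      exact hi (hg i (subsingleton_HK M t i (by
        simp only [Set.mem_Icc, not_and_or, not_le] at hne
        exact hne.symm)))
    have hs1 : (Function.support g1).Finite := hs g1 fun i hi => by
      haveI : Subsingleton (HK M t i ⧸ srange f (HK M t i)) := (Submodule.mkQ_surjective _).subsingleton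
      rw [hg1]
      simp only [E_subsingleton, mul_zero]
    have hs2 : (Function.support g2).Finite := hs g2 fun i hi => by
      rw [hg2]
      simp only [E_subsingleton, mul_zero]
    have hlhs : ∀ i : ℤ, ((i.negOnePow : ℤˣ) : ℤ) * E r (HK M (f :: t) i) = g1 i + -(g2 (i + 1)) := fun i => by
      rw [E_HK_cons M f t r h i, hg1, hg2]
      simp only [Int.negOnePow_succ, Units.val_neg]
      ring
    rw [finsum_congr hlhs, finsum_add_distrib hs1, finsum_neg_distrib,
      show (∑ᶠ i : ℤ, g2 (i + 1)) = ∑ᶠ i : ℤ, g2 i from finsum_comp_equiv (Equiv.addRight (1 : ℤ)), ← sub_eq_add_neg, ← finsum_sub_distrib hs1 hs2]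
    · rw [List.reverse_cons, List.append_assoc, List.singleton_append, ← ih]
      refine finsum_congr fun i => ?_
      rw [hg1, hg2, E_cons]
      ring
    · refine (hs2.preimage (add_left_injective (1 : ℤ)).injOn).subset fun i hi => ?_
      simpa using hi

/-- The Euler characteristic as in the statements. -/
theorem chi_eq_E [IsNoetherianRing A] (M : Type u) [AddCommGroup M] [Module A M] [Module.Finite A M] (l : List A)
    (h : Dom l M) :
    (∑ᶠ i : ℤ, ((i.negOnePow : ℤˣ) : ℤ) *
      ((Module.length A ((DRing.tensorCx (Koszul.koszul A l) (ModuleCat.of A M)).homology i)).toNat : ℤ)) =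
      E l.reverse M := by
  have h1 := finsum_E (ModuleCat.of A M) l [] (by rw [List.append_nil]; exact h)
  rw [List.append_nil] at h1
  refine (finsum_congr fun i => ?_).trans h1
  rw [E_nil, (HomologicalComplex.homologyMapIso (tensorCxKoszulIso (ModuleCat.of A M) l) i).toLinearEquiv.length_eq]

/-- The hypothesis of the statements. -/
theorem dom_of_finiteLength {M : Type u} [AddCommGroup M] [Module A M] [Module.Finite A M] {I : Ideal A} {l : List A}
    (hI : I ≤ Ideal.ofList l) (h : IsFiniteLength A (M ⧸ (I • (⊤ : Submodule A M)))) : Dom l M :=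
  fun _p hp hl => HSLib.isMaximal_of_mem_support_of_le (Module.length_ne_top_iff.mpr h) hp (hI.trans hl)

theorem ofList_ofFn {k : ℕ} (x : Fin k → A) : Ideal.ofList (List.ofFn x) = Ideal.span (Set.range x) := by
  rw [Ideal.ofList]
  congr 1
  ext a
  simp [List.mem_ofFn]

end Groth.Agent.KEulerLib
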