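import Groth.Agent.KEulerLib.Dim

/-!
# Growth of Koszul homology of powers
-/

set_option autoImplicit false
set_option linter.unusedSectionVars false
set_option linter.style.haveILetI false
set_option backward.isDefEq.respectTransparency false
universe u

open CategoryTheory CategoryTheory.Limits CochainComplex IsLocalRing

noncomputable section

namespace Groth.Agent.KEulerLib

open Groth.Agent.KoszulCech Groth.Agent.LocCohLib CohIII

variable {A : Type u} [CommRing A]

section Coeff

variable {M₁ M₂ M₃ : ModuleCat.{u} A} (a : M₁ ⟶ M₂) (b : M₂ ⟶ M₃)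

theorem kmapM_cfst {M N : ModuleCat.{u} A} (g : M ⟶ N) (f : A) (l : List A) {i j : ℤ} (h : i + 1 = j)
    (x : (koszulCx M (f :: l)).X i) :
    cfst (f • 𝟙 (koszulCx N l)) i j h ((kmapM g (f :: l)).f i x) =
      (kmapM g l).f j (cfst (f • 𝟙 (koszulCx M l)) i j h x) :=
  cfst_map (f • 𝟙 (koszulCx M l)) (f • 𝟙 (koszulCx N l)) (kmapM g l) (kmapM g l)
    (by rw [Linear.smul_comp, Category.id_comp, Linear.comp_smul, Category.comp_id]) h x

theorem kmapM_csnd {M N : ModuleCat.{u} A} (g : M ⟶ N) (f : A) (l : List A) {i : ℤ}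
    (x : (koszulCx M (f :: l)).X i) :
    csnd (f • 𝟙 (koszulCx N l)) i ((kmapM g (f :: l)).f i x) =
      (kmapM g l).f i (csnd (f • 𝟙 (koszulCx M l)) i x) :=
  csnd_map (f • 𝟙 (koszulCx M l)) (f • 𝟙 (koszulCx N l)) (kmapM g l) (kmapM g l)
    (by rw [Linear.smul_comp, Category.id_comp, Linear.comp_smul, Category.comp_id]) x

theorem kmapM_exact (ha : Function.Injective a) (hb : Function.Surjective b) (hab : Function.Exact a b) :
    ∀ (l : List A) (i : ℤ), Function.Injective ((kmapM a l).f i) ∧ Function.Surjective ((kmapM b l).f i) ∧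
      Function.Exact ((kmapM a l).f i) ((kmapM b l).f i)
  | [], i => by
    rcases eq_or_ne i 0 with rfl | hi
    · let e₁ := (HomologicalComplex.singleObjXSelf (ComplexShape.up ℤ) 0 M₁).toLinearEquiv
      let e₂ := (HomologicalComplex.singleObjXSelf (ComplexShape.up ℤ) 0 M₂).toLinearEquiv
      let e₃ := (HomologicalComplex.singleObjXSelf (ComplexShape.up ℤ) 0 M₃).toLinearEquiv
      have hsq : ∀ {M N : ModuleCat.{u} A} (g : M ⟶ N) (x : (koszulCx M []).X 0),
          (HomologicalComplex.singleObjXSelf (ComplexShape.up ℤ) 0 N).toLinearEquiv ((kmapM g []).f 0 x) =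
            g ((HomologicalComplex.singleObjXSelf (ComplexShape.up ℤ) 0 M).toLinearEquiv x) := fun {M N} g x => by
        have h' : (kmapM g []).f 0 ≫ (HomologicalComplex.singleObjXSelf (ComplexShape.up ℤ) 0 N).hom =
            (HomologicalComplex.singleObjXSelf (ComplexShape.up ℤ) 0 M).hom ≫ g := by
          rw [kmapM, HomologicalComplex.single_map_f_self]; simp
        exact ConcreteCategory.congr_hom h' x
      refine ⟨fun x y hxy => e₁.injective (ha ?_), fun z => ?_, fun y => ?_⟩
      · exact (hsq a x).symm.trans ((congrArg e₂ hxy).trans (hsq a y))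
      · obtain ⟨w, hw⟩ := hb (e₃ z)
        refine ⟨e₂.symm w, e₃.injective ((hsq b _).trans ?_)⟩
        exact (congrArg b (e₂.apply_symm_apply w)).trans hw
      · refine (map_eq_zero_iff e₃ e₃.injective).symm.trans ((Eq.congr_left (hsq b y)).trans ((hab _).trans ?_))
        constructor
        · rintro ⟨w, hw⟩
          exact ⟨e₁.symm w, e₂.injective ((hsq a _).trans ((congrArg a (e₁.apply_symm_apply w)).trans hw))⟩
        · rintro ⟨w, rfl⟩
          exact ⟨e₁ w, (hsq a w).symm⟩
    · haveI := subsingleton_X M₁ ([] : List A) i (by simp; omega)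
      haveI := subsingleton_X M₂ ([] : List A) i (by simp; omega)
      haveI := subsingleton_X M₃ ([] : List A) i (by simp; omega)
      exact ⟨fun _ _ _ => Subsingleton.elim _ _, fun y => ⟨0, Subsingleton.elim _ _⟩,
        fun x => iff_of_true (Subsingleton.elim _ _) ⟨0, Subsingleton.elim _ _⟩⟩
  | f :: l, i => by
    obtain ⟨i₁, s₁, x₁⟩ := kmapM_exact ha hb hab l (i + 1)
    obtain ⟨i₀, s₀, x₀⟩ := kmapM_exact ha hb hab l i
    refine ⟨fun x y hxy => cone_ext (f • 𝟙 (koszulCx M₁ l)) rfl (i₁ ?_) (i₀ ?_), fun z => ?_, fun y => ⟨fun hy => ?_, ?_⟩⟩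
    · rw [← kmapM_cfst, ← kmapM_cfst, hxy]
    · rw [← kmapM_csnd, ← kmapM_csnd, hxy]
    · obtain ⟨p, hp⟩ := s₁ (cfst (f • 𝟙 (koszulCx M₃ l)) i (i + 1) rfl z)
      obtain ⟨q, hq⟩ := s₀ (csnd (f • 𝟙 (koszulCx M₃ l)) i z)
      refine ⟨cmk (f • 𝟙 (koszulCx M₂ l)) i (i + 1) rfl p q, cone_ext (f • 𝟙 (koszulCx M₃ l)) rfl
        ((kmapM_cfst b f l rfl _).trans ?_) ((kmapM_csnd b f l _).trans ?_)⟩
      · rw [cfst_cmk]; exact hp
      · rw [csnd_cmk]; exact hq
    · obtain ⟨p, hp⟩ := (x₁ _).mp ((kmapM_cfst b f l rfl y).symm.trans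
        ((congrArg (cfst (f • 𝟙 (koszulCx M₃ l)) i (i + 1) rfl) hy).trans (map_zero _)))
      obtain ⟨q, hq⟩ := (x₀ _).mp ((kmapM_csnd b f l y).symm.trans
        ((congrArg (csnd (f • 𝟙 (koszulCx M₃ l)) i) hy).trans (map_zero _)))
      refine ⟨cmk (f • 𝟙 (koszulCx M₁ l)) i (i + 1) rfl p q, cone_ext (f • 𝟙 (koszulCx M₂ l)) rfl
        ((kmapM_cfst a f l rfl _).trans ?_) ((kmapM_csnd a f l _).trans ?_)⟩
      · rw [cfst_cmk]; exact hp
      · rw [csnd_cmk]; exact hq
    · rintro ⟨w, rfl⟩
      refine cone_ext (f • 𝟙 (koszulCx M₃ l)) rfl ((kmapM_cfst b f l rfl _).trans ?_) ((kmapM_csnd b f l _).trans ?_)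
      · rw [kmapM_cfst, map_zero]; exact x₁.apply_apply_eq_zero _
      · rw [kmapM_csnd, map_zero]; exact x₀.apply_apply_eq_zero _

/-- Koszul homology is exact in the middle. -/
theorem length_HK_le_of_exact (ha : Function.Injective a) (hb : Function.Surjective b) (hab : Function.Exact a b)
    (l : List A) (i : ℤ) :
    Module.length A (HK M₂ l i) ≤ Module.length A (HK M₁ l i) + Module.length A (HK M₃ l i) := by
  let F : HK M₁ l i →ₗ[A] HK M₂ l i := (HomologicalComplex.homologyMap (kmapM a l) i).hom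
  let G : HK M₂ l i →ₗ[A] HK M₃ l i := (HomologicalComplex.homologyMap (kmapM b l) i).hom
  have hker : LinearMap.ker G ≤ LinearMap.range F := fun y hy => by
    obtain ⟨z, rfl⟩ := cls_surjective (koszulCx M₂ l) i y
    rw [LinearMap.mem_ker] at hy
    change (HomologicalComplex.homologyMap (kmapM b l) i).hom (cls _ i z) = 0 at hy
    rw [homologyMap_cls, cls_eq_zero (i := i - 1) (by omega)] at hy
    obtain ⟨w, hw⟩ := hy
    obtain ⟨v, rfl⟩ := (kmapM_exact a b ha hb hab l (i - 1)).2.1 w
    have hb' : (kmapM b l).f i (z.1 - (koszulCx M₂ l).d (i - 1) i v) = 0 := by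
      have hc : (koszulCx M₃ l).d (i - 1) i ((kmapM b l).f (i - 1) v) =
          (kmapM b l).f i ((koszulCx M₂ l).d (i - 1) i v) := ConcreteCategory.congr_hom ((kmapM b l).comm (i - 1) i) v
      rw [map_sub, ← hc, hw]
      exact sub_self _
    obtain ⟨x, hx⟩ := ((kmapM_exact a b ha hb hab l i).2.2 _).mp hb'
    have hxz : (koszulCx M₁ l).d i (i + 1) x = 0 := by
      apply (kmapM_exact a b ha hb hab l (i + 1)).1
      have hc : (koszulCx M₂ l).d i (i + 1) ((kmapM a l).f i x) =
          (kmapM a l).f (i + 1) ((koszulCx M₁ l).d i (i + 1) x) := ConcreteCategory.congr_hom ((kmapM a l).comm i (i + 1)) x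
      rw [map_zero, ← hc, hx, map_sub, zmod_d rfl z]
      rw [show (koszulCx M₂ l).d i (i + 1) ((koszulCx M₂ l).d (i - 1) i v) = 0 from
        ConcreteCategory.congr_hom ((koszulCx M₂ l).d_comp_d (i - 1) i (i + 1)) v, sub_zero]
    refine ⟨cls _ i ⟨x, mem_zmod hxz⟩, ?_⟩
    show (HomologicalComplex.homologyMap (kmapM a l) i).hom (cls _ i _) = _
    rw [homologyMap_cls, ← sub_eq_zero, ← map_sub]
    refine (cls_eq_zero (i := i - 1) (by omega) _).mpr ⟨-v, ?_⟩
    show _ = (kmapM a l).f i x - z.1
    rw [hx, map_neg]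
    abel
  rw [Module.length_eq_add_of_exact (LinearMap.ker G).subtype G.rangeRestrict (Submodule.subtype_injective _)
    (LinearMap.surjective_rangeRestrict G) (by
      rw [LinearMap.exact_iff, LinearMap.ker_rangeRestrict, Submodule.range_subtype])]
  refine add_le_add ((Module.length_le_of_injective (Submodule.inclusion hker) (Submodule.inclusion_injective _)).trans
    (Module.length_le_of_surjective F.rangeRestrict (LinearMap.surjective_rangeRestrict F)))
    (Module.length_le_of_injective _ (Submodule.subtype_injective _))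

end Coeff

theorem subsingleton_HK_of_subsingleton (N : Type u) [AddCommGroup N] [Module A N] [Subsingleton N] (l : List A)
    (i : ℤ) : Subsingleton (HK (ModuleCat.of A N) l i) := by
  refine subsingleton_of_forall_eq 0 fun y => ?_
  have h := smul_HK_eq_zero_of_annihilator (ModuleCat.of A N)
    (Module.mem_annihilator.mpr fun _ => Subsingleton.elim (α := N) _ _ : (1 : A) ∈ _) l i y
  rwa [one_smul] at h

theorem length_HK_cons_regular (N : Type u) [AddCommGroup N] [Module A N] {f : A} (hreg : IsSMulRegular N f)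
    (t : List A) (i : ℤ) :
    Module.length A (HK (ModuleCat.of A N) (f :: t) i) =
      Module.length A (HK (ModuleCat.of A (N ⧸ srange f N)) t i) := by
  have hq : QuotSeq f (ModuleCat.ofHom (srange f N).mkQ : ModuleCat.of A N ⟶ ModuleCat.of A (N ⧸ srange f N)) :=
    { inj := hreg
      surj := Submodule.mkQ_surjective _
      ker := fun x => (Submodule.Quotient.mk_eq_zero _).trans Iff.rfl }
  let hπ := quotSeq_kmapM hq t
  exact (LinearEquiv.ofBijective _
    ((hBij_cone_quot hπ (quotProj hπ) (quotProj_f hπ)).bijective_homologyMap i)).length_eq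

theorem length_HK_quot_pow_le (N : Type u) [AddCommGroup N] [Module A N] {f : A} (hreg : IsSMulRegular N f)
    (t : List A) (i : ℤ) : ∀ m : ℕ, Module.length A (HK (ModuleCat.of A (N ⧸ srange (f ^ m) N)) t i) ≤
      m * Module.length A (HK (ModuleCat.of A (N ⧸ srange f N)) t i)
  | 0 => by
    haveI : Subsingleton (N ⧸ srange (f ^ 0) N) := ⟨fun a b => by
      have ha := smul_quot_srange (f ^ 0) a
      have hb := smul_quot_srange (f ^ 0) b
      simp only [pow_zero, one_smul] at ha hb
      exact ha.trans hb.symm⟩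
    haveI := subsingleton_HK_of_subsingleton (A := A) (N ⧸ srange (f ^ 0) N) t i
    rw [Module.length_eq_zero]
    exact bot_le
  | m + 1 => by
    let a : (N ⧸ srange f N) →ₗ[A] N ⧸ srange (f ^ (m + 1)) N := Submodule.mapQ _ _ (LinearMap.lsmul A N (f ^ m)) (by
      rintro _ ⟨z, rfl⟩
      exact ⟨z, show f ^ (m + 1) • z = f ^ m • f • z by rw [smul_smul, ← pow_succ]⟩)
    let b : (N ⧸ srange (f ^ (m + 1)) N) →ₗ[A] N ⧸ srange (f ^ m) N := Submodule.factor (by
      rintro _ ⟨z, rfl⟩
      exact ⟨f • z, show f ^ m • f • z = f ^ (m + 1) • z by rw [smul_smul, ← pow_succ]⟩)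
    have ha : Function.Injective a := by
      rw [injective_iff_map_eq_zero]
      intro x
      obtain ⟨x, rfl⟩ := Submodule.Quotient.mk_surjective _ x
      intro hx
      obtain ⟨w, hw⟩ := (Submodule.Quotient.mk_eq_zero _).mp hx
      change f ^ (m + 1) • w = f ^ m • x at hw
      rw [pow_succ, mul_smul] at hw
      exact (Submodule.Quotient.mk_eq_zero _).mpr ⟨w, (hreg.pow m) hw⟩
    have hb : Function.Surjective b := fun z => by
      obtain ⟨z, rfl⟩ := Submodule.Quotient.mk_surjective _ z
      exact ⟨Submodule.Quotient.mk z, rfl⟩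
    have hab : Function.Exact a b := fun y => by
      obtain ⟨y, rfl⟩ := Submodule.Quotient.mk_surjective _ y
      constructor
      · intro hy
        obtain ⟨w, hw⟩ := (Submodule.Quotient.mk_eq_zero _).mp hy
        exact ⟨Submodule.Quotient.mk w, congrArg Submodule.Quotient.mk hw⟩
      · rintro ⟨w, hw⟩
        obtain ⟨w, rfl⟩ := Submodule.Quotient.mk_surjective _ w
        rw [← hw]
        exact (Submodule.Quotient.mk_eq_zero _).mpr ⟨w, rfl⟩
    refine (length_HK_le_of_exact (M₁ := ModuleCat.of A (N ⧸ srange f N))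
      (M₂ := ModuleCat.of A (N ⧸ srange (f ^ (m + 1)) N)) (M₃ := ModuleCat.of A (N ⧸ srange (f ^ m) N))
      (ModuleCat.ofHom a) (ModuleCat.ofHom b) ha hb hab t i).trans ?_
    refine (add_le_add le_rfl (length_HK_quot_pow_le N hreg t i m)).trans (le_of_eq ?_)
    push_cast
    ring

variable [IsNoetherianRing A] [IsLocalRing A]

/-- Zero or regular scalar on a prime quotient, with the induced bound. -/
theorem length_HK_cons_pow (N : Type u) [AddCommGroup N] [Module A N] (p : PrimeSpectrum A)
    (e : N ≃ₗ[A] A ⧸ p.asIdeal) (f : A) (t : List A) (i : ℤ) {n : ℕ} (hn : 0 < n) :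
    ((∀ x : N, f • x = 0) → Module.length A (HK (ModuleCat.of A N) (f ^ n :: t) i) ≤
        Module.length A (HK (ModuleCat.of A N) t i) + Module.length A (HK (ModuleCat.of A N) t (i + 1))) ∧
      (IsSMulRegular N f → Module.length A (HK (ModuleCat.of A N) (f ^ n :: t) i) ≤
        n * Module.length A (HK (ModuleCat.of A (N ⧸ srange f N)) t i)) := by
  refine ⟨fun _ => length_cone_le (f ^ n) _ rfl, fun hreg => ?_⟩
  rw [length_HK_cons_regular N (hreg.pow n)]
  exact length_HK_quot_pow_le N hreg t i n

theorem exists_bound_dim : ∀ (l : List A), (∀ a ∈ l, a ∈ maximalIdeal A) →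
    ∀ (N : Type u) [AddCommGroup N] [Module A N] [Module.Finite A N], Dom l N →
      ∀ d : ℕ, Module.supportDim A N ≤ (d : WithBot ℕ∞) → ∀ i : ℤ,
        ∃ c : ℕ, ∀ n : ℕ, 0 < n → Module.length A (HK (ModuleCat.of A N) (l.map (· ^ n)) i) ≤ ((c * n ^ d : ℕ) : ℕ∞)
  | [], _, N, _, _, _, hN, d, _, i => by
    have h := length_HK_ne_top (ModuleCat.of A N) (l := []) hN i
    obtain ⟨k, hk⟩ := ENat.ne_top_iff_exists.mp h
    refine ⟨k, fun n hn => ?_⟩
    rw [List.map_nil, ← hk]
    exact_mod_cast Nat.le_mul_of_pos_right k (pow_pos hn d)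
  | f :: t, hl, N, _, _, hfin, hN, d, hd, i => by
    have hf := hl f List.mem_cons_self
    have ih := exists_bound_dim t fun a ha => hl a (List.mem_cons_of_mem _ ha)
    revert hN hd
    induction hfin using IsNoetherianRing.induction_on_isQuotientEquivQuotientPrime A with
    | subsingleton N =>
      refine fun _ _ => ⟨0, fun n _ => ?_⟩
      haveI := subsingleton_HK_of_subsingleton (A := A) N ((f :: t).map (· ^ n)) i
      rw [Module.length_eq_zero]
      exact bot_le
    | quotient N p e =>
      intro hN hd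
      rcases E_cons_prime t N p e (f := f) with ⟨h0, -, ⟨e'⟩⟩ | ⟨hreg, -⟩
      · have hN' : Dom t N := hN.quot.of_surjective e'.toLinearMap e'.surjective
        obtain ⟨c₁, hc₁⟩ := ih N hN' d hd i
        obtain ⟨c₂, hc₂⟩ := ih N hN' d hd (i + 1)
        refine ⟨c₁ + c₂, fun n hn => ?_⟩
        refine ((length_HK_cons_pow N p e f _ i hn).1 h0).trans ((add_le_add (hc₁ n hn) (hc₂ n hn)).trans (le_of_eq ?_))
        push_cast
        ring
      · haveI : Nontrivial N := by
          haveI : Nontrivial (A ⧸ p.asIdeal) := Ideal.Quotient.nontrivial_iff.mpr p.isPrime.ne_top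
          exact e.toEquiv.nontrivial
        have hd' := (supportDim_quot_srange hf N hreg).le.trans hd
        rcases subsingleton_or_nontrivial (N ⧸ srange f N) with h' | h'
        · exfalso
          have := supportDim_quot_srange hf N hreg
          rw [Module.supportDim_eq_bot_of_subsingleton, WithBot.bot_add] at this
          exact Module.supportDim_ne_bot_of_nontrivial A N this.symm
        · obtain ⟨m, hm⟩ := exists_nat_supportDim (A := A) (N ⧸ srange f N)
          rw [hm] at hd'
          have hmd : m + 1 ≤ d := by exact_mod_cast hd'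
          obtain ⟨c, hc⟩ := ih _ hN.quot (d - 1) (by rw [hm]; exact_mod_cast (by omega : m ≤ d - 1)) i
          refine ⟨c, fun n hn => ?_⟩
          refine ((length_HK_cons_pow N p e f _ i hn).2 hreg).trans ((mul_le_mul' le_rfl (hc n hn)).trans (le_of_eq ?_))
          rw [show n ^ d = n ^ (d - 1) * n by rw [← pow_succ, show d - 1 + 1 = d by omega]]
          push_cast
          ring
    | exact N₁ N₂ N₃ a b ha hb hab h1 h3 =>
      intro hN hd
      obtain ⟨c₁, hc₁⟩ := h1 (hN.of_injective a ha) ((Module.supportDim_le_of_injective a ha).trans hd)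
      obtain ⟨c₃, hc₃⟩ := h3 (hN.of_surjective b hb) ((Module.supportDim_le_of_surjective b hb).trans hd)
      refine ⟨c₁ + c₃, fun n hn => ?_⟩
      refine (length_HK_le_of_exact (ModuleCat.ofHom a) (ModuleCat.ofHom b) ha hb hab _ i).trans
        ((add_le_add (hc₁ n hn) (hc₃ n hn)).trans (le_of_eq ?_))
      push_cast
      ring

theorem exists_bound_degree : ∀ (l : List A) (N : Type u) [AddCommGroup N] [Module A N] [Module.Finite A N], Dom l N →
      ∀ i : ℤ, ∃ c : ℕ, ∀ n : ℕ, 0 < n → Module.length A (HK (ModuleCat.of A N) (l.map (· ^ n)) i) ≤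
        ((c * n ^ (i + l.length).toNat : ℕ) : ℕ∞)
  | [], N, _, _, _, hN, i => by
    have h := length_HK_ne_top (ModuleCat.of A N) (l := []) hN i
    obtain ⟨k, hk⟩ := ENat.ne_top_iff_exists.mp h
    refine ⟨k, fun n hn => ?_⟩
    rw [List.map_nil, ← hk]
    exact_mod_cast Nat.le_mul_of_pos_right k (pow_pos hn _)
  | f :: t, N, _, _, hfin, hN, i => by
    have ih := exists_bound_degree t
    revert hN
    induction hfin using IsNoetherianRing.induction_on_isQuotientEquivQuotientPrime A with
    | subsingleton N =>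
      refine fun _ => ⟨0, fun n _ => ?_⟩
      haveI := subsingleton_HK_of_subsingleton (A := A) N ((f :: t).map (· ^ n)) i
      rw [Module.length_eq_zero]
      exact bot_le
    | quotient N p e =>
      intro hN
      rcases E_cons_prime t N p e (f := f) with ⟨h0, -, ⟨e'⟩⟩ | ⟨hreg, -⟩
      · have hN' : Dom t N := hN.quot.of_surjective e'.toLinearMap e'.surjective
        obtain ⟨c₁, hc₁⟩ := ih N hN' i
        obtain ⟨c₂, hc₂⟩ := ih N hN' (i + 1)
        refine ⟨c₁ + c₂, fun n hn => ?_⟩
        have hexp : ((f :: t).length : ℤ) = t.length + 1 := by simp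
        have h1 : n ^ (i + t.length).toNat ≤ n ^ (i + (f :: t).length).toNat := Nat.pow_le_pow_right hn (by omega)
        have h2 : (i + 1 + t.length).toNat = (i + (f :: t).length).toNat := by omega
        refine ((length_HK_cons_pow N p e f _ i hn).1 h0).trans ((add_le_add (hc₁ n hn) (hc₂ n hn)).trans ?_)
        rw [h2, add_mul]
        push_cast
        exact add_le_add (mul_le_mul' le_rfl (by exact_mod_cast h1)) le_rfl
      · by_cases hi : i < -(t.length : ℤ)
        · refine ⟨0, fun n hn => ?_⟩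
          refine ((length_HK_cons_pow N p e f _ i hn).2 hreg).trans ?_
          haveI := subsingleton_HK (ModuleCat.of A (N ⧸ srange f N)) (t.map (· ^ n)) i (Or.inr (by simpa using hi))
          rw [Module.length_eq_zero, mul_zero]
          exact bot_le
        · obtain ⟨c, hc⟩ := ih _ hN.quot i
          refine ⟨c, fun n hn => ?_⟩
          refine ((length_HK_cons_pow N p e f _ i hn).2 hreg).trans ((mul_le_mul' le_rfl (hc n hn)).trans (le_of_eq ?_))
          have hexp : (i + (f :: t).length).toNat = (i + t.length).toNat + 1 := by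
            simp only [List.length_cons]
            omega
          rw [hexp, pow_succ]
          push_cast
          ring
    | exact N₁ N₂ N₃ a b ha hb hab h1 h3 =>
      intro hN
      obtain ⟨c₁, hc₁⟩ := h1 (hN.of_injective a ha)
      obtain ⟨c₃, hc₃⟩ := h3 (hN.of_surjective b hb)
      refine ⟨c₁ + c₃, fun n hn => ?_⟩
      refine (length_HK_le_of_exact (ModuleCat.ofHom a) (ModuleCat.ofHom b) ha hb hab _ i).trans
        ((add_le_add (hc₁ n hn) (hc₃ n hn)).trans (le_of_eq ?_))
      push_cast
      ring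

end Groth.Agent.KEulerLib
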