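import Groth.Agent.KoszulCech.Basics
import Groth.Prelude.Def_Koszul
import Groth.Prelude.Def_DRing2

/-!
# Homology of Koszul complexes with coefficients: the cone sequences
-/

set_option autoImplicit false
set_option linter.unusedSectionVars false
set_option linter.style.haveILetI false
set_option backward.isDefEq.respectTransparency false
universe u

open CategoryTheory CategoryTheory.Limits CochainComplex

noncomputable section

namespace Groth.Agent.KEulerLib

open Groth.Agent.KoszulCech Groth.Agent.LocCohLib CohIII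

variable {A : Type u} [CommRing A]

/-- The kernel of a scalar. -/
abbrev sker (f : A) (N : Type u) [AddCommGroup N] [Module A N] : Submodule A N :=
  LinearMap.ker (LinearMap.lsmul A N f)

/-- The image of a scalar. -/
abbrev srange (f : A) (N : Type u) [AddCommGroup N] [Module A N] : Submodule A N :=
  LinearMap.range (LinearMap.lsmul A N f)

/-- The coefficient Koszul complex of the prelude. -/
def tensorCxKoszulIso (M : ModuleCat.{u} A) : ∀ l : List A,
    DRing.tensorCx (Koszul.koszul A l) M ≅ koszulCx M l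
  | [] => (HomologicalComplex.singleMapHomologicalComplex (MonoidalCategory.tensorRight M) (ComplexShape.up ℤ) 0).app _ ≪≫
      (HomologicalComplex.single (ModuleCat.{u} A) (ComplexShape.up ℤ) 0).mapIso (MonoidalCategory.leftUnitor M)
  | f :: l => CochainComplex.mappingCone.mapHomologicalComplexIso (f • 𝟙 (Koszul.koszul A l))
      (MonoidalCategory.tensorRight M) ≪≫
      { hom := mappingCone.map _ (f • 𝟙 (koszulCx M l)) (tensorCxKoszulIso M l).hom (tensorCxKoszulIso M l).hom (by
          rw [Functor.map_smul, CategoryTheory.Functor.map_id]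
          simp only [Linear.smul_comp, Linear.comp_smul]
          erw [Category.id_comp])
        inv := mappingCone.map (f • 𝟙 (koszulCx M l)) _ (tensorCxKoszulIso M l).inv (tensorCxKoszulIso M l).inv (by
          rw [Functor.map_smul, CategoryTheory.Functor.map_id]
          simp only [Linear.smul_comp, Linear.comp_smul]
          erw [Category.id_comp])
        hom_inv_id := by
          rw [← mappingCone.map_comp]
          simp only [Iso.hom_inv_id]
          exact mappingCone.map_id _
        inv_hom_id := by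
          rw [← mappingCone.map_comp]
          simp only [Iso.inv_hom_id]
          exact mappingCone.map_id _ }

/-- A linear map out of homology, given on cycles. -/
def descH (K : CochainComplex (ModuleCat.{u} A) ℤ) (i : ℤ) {X : Type u} [AddCommGroup X] [Module A X]
    (ψ : Zmod K i →ₗ[A] X) (h : ∀ z, cls K i z = 0 → ψ z = 0) : K.homology i →ₗ[A] X :=
  (Submodule.liftQ (LinearMap.ker (cls K i)) ψ fun z hz => LinearMap.mem_ker.mpr (h z (LinearMap.mem_ker.mp hz))).comp
    ((cls K i).quotKerEquivOfSurjective (cls_surjective K i)).symm.toLinearMap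

theorem descH_cls (K : CochainComplex (ModuleCat.{u} A) ℤ) (i : ℤ) {X : Type u} [AddCommGroup X] [Module A X]
    (ψ : Zmod K i →ₗ[A] X) (h : ∀ z, cls K i z = 0 → ψ z = 0) (z : Zmod K i) : descH K i ψ h (cls K i z) = ψ z := by
  have h1 : ((cls K i).quotKerEquivOfSurjective (cls_surjective K i)).symm (cls K i z) = Submodule.Quotient.mk z := by
    rw [LinearEquiv.symm_apply_eq]
    rfl
  refine (congrArg (Submodule.liftQ (LinearMap.ker (cls K i)) ψ fun z hz => LinearMap.mem_ker.mpr (h z (LinearMap.mem_ker.mp hz))) h1).trans ?_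
  rfl

section ConeSeq

variable (f : A) (K : CochainComplex (ModuleCat.{u} A) ℤ)

/-- The long exact sequence of the cone of a scalar, at one degree. -/
theorem exists_cone_seq {i j : ℤ} (h : i + 1 = j) :
    ∃ (u : K.homology i →ₗ[A] (mappingCone (f • 𝟙 K)).homology i)
      (v : (mappingCone (f • 𝟙 K)).homology i →ₗ[A] K.homology j),
      LinearMap.ker u = srange f (K.homology i) ∧ Function.Exact u v ∧ LinearMap.range v = sker f (K.homology j) := by
  subst h
  set C := mappingCone (f • 𝟙 K)
  let c1 := cfst (f • 𝟙 K) i (i + 1) rfl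
  have hcy : ∀ z : Zmod C i, c1 z.1 ∈ Zmod K (i + 1) := fun z => by
    refine mem_zmod ?_
    have h1 := cfst_d (f • 𝟙 K) (rfl : i + 1 = i + 1) (rfl : i + 1 + 1 = i + 1 + 1) z.1
    rw [zmod_d rfl z, map_zero] at h1
    exact neg_eq_zero.mp h1.symm
  let ψ : Zmod C i →ₗ[A] K.homology (i + 1) :=
    (cls K (i + 1)).comp ((c1.comp (Zmod C i).subtype).codRestrict (Zmod K (i + 1)) hcy)
  have hψ : ∀ z, cls C i z = 0 → ψ z = 0 := fun z hz => by
    obtain ⟨w, hw⟩ := (cls_eq_zero (i := i - 1) (by omega) z).mp hz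
    refine (cls_eq_zero (i := i) rfl _).mpr ⟨-(cfst (f • 𝟙 K) (i - 1) i (by omega) w), ?_⟩
    rw [map_neg]
    show -(K.d i (i + 1)) _ = c1 z.1
    rw [← hw]
    exact (cfst_d (f • 𝟙 K) (by omega : i - 1 + 1 = i) rfl w).symm
  let v := descH C i ψ hψ
  let u : K.homology i →ₗ[A] C.homology i := (HomologicalComplex.homologyMap (mappingCone.inr (f • 𝟙 K)) i).hom
  have hinr : ∀ x : K.X i, c1 ((mappingCone.inr (f • 𝟙 K)).f i x) = 0 ∧
      csnd (f • 𝟙 K) i ((mappingCone.inr (f • 𝟙 K)).f i x) = x := fun x =>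
    ⟨ConcreteCategory.congr_hom (mappingCone.inr_f_fst_v (f • 𝟙 K) i (i + 1) rfl) x,
      ConcreteCategory.congr_hom (mappingCone.inr_f_snd_v (f • 𝟙 K) i) x⟩
  refine ⟨u, v, ?_, ?_, ?_⟩
  · refine le_antisymm (fun y hy => ?_) ?_
    · obtain ⟨x, rfl⟩ := cls_surjective K i y
      rw [LinearMap.mem_ker] at hy
      change (HomologicalComplex.homologyMap (mappingCone.inr (f • 𝟙 K)) i).hom (cls K i x) = 0 at hy
      rw [homologyMap_cls, cls_eq_zero (i := i - 1) (by omega)] at hy
      obtain ⟨w, hw⟩ := hy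
      have hw1 := congrArg c1 hw
      have hw2 := congrArg (csnd (f • 𝟙 K) i) hw
      rw [show c1 (mapZ i (mappingCone.inr (f • 𝟙 K)) x).1 = 0 from (hinr x.1).1] at hw1
      rw [show csnd (f • 𝟙 K) i (mapZ i (mappingCone.inr (f • 𝟙 K)) x).1 = x.1 from (hinr x.1).2,
        csnd_d _ (by omega : i - 1 + 1 = i)] at hw2
      have ha : K.d i (i + 1) (cfst (f • 𝟙 K) (i - 1) i (by omega) w) = 0 :=
        neg_eq_zero.mp ((cfst_d (f • 𝟙 K) (by omega : i - 1 + 1 = i) rfl w).symm.trans hw1)
      refine ⟨cls K i ⟨_, mem_zmod ha⟩, ?_⟩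
      show f • cls K i _ = cls K i x
      rw [← map_smul, ← sub_eq_zero, ← map_sub]
      refine (cls_eq_zero (i := i - 1) (by omega) _).mpr ⟨-(csnd (f • 𝟙 K) (i - 1) w), ?_⟩
      show _ = f • (cfst (f • 𝟙 K) (i - 1) i _ w) - x.1
      rw [← hw2, map_neg, smulId_f_apply]
      abel
    · rintro _ ⟨y, rfl⟩
      obtain ⟨x, rfl⟩ := cls_surjective K i y
      show (HomologicalComplex.homologyMap (mappingCone.inr (f • 𝟙 K)) i).hom (f • cls K i x) = 0
      rw [← map_smul, homologyMap_cls]
      refine (cls_eq_zero (i := i - 1) (by omega) _).mpr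
        ⟨cmk (f • 𝟙 K) (i - 1) i (by omega) x.1 0, cone_ext (f • 𝟙 K) rfl ?_ ?_⟩
      · show c1 _ = c1 ((mappingCone.inr (f • 𝟙 K)).f i (f • x.1))
        rw [(hinr _).1]
        refine (cfst_d (f • 𝟙 K) (by omega : i - 1 + 1 = i) rfl _).trans ?_
        rw [cfst_cmk, zmod_d rfl x, neg_zero]
      · show _ = csnd (f • 𝟙 K) i ((mappingCone.inr (f • 𝟙 K)).f i (f • x.1))
        rw [(hinr _).2]
        refine (csnd_d (f • 𝟙 K) (by omega : i - 1 + 1 = i) _).trans ?_
        rw [cfst_cmk, csnd_cmk, map_zero, add_zero, smulId_f_apply]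
  · intro y
    obtain ⟨z, rfl⟩ := cls_surjective C i y
    constructor
    · intro hz
      rw [show v (cls C i z) = ψ z from descH_cls C i ψ hψ z] at hz
      obtain ⟨a, ha⟩ := (cls_eq_zero (i := i) rfl _).mp hz
      change K.d i (i + 1) a = c1 z.1 at ha
      have hz2 : f • c1 z.1 + K.d i (i + 1) (csnd (f • 𝟙 K) i z.1) = 0 := by
        have h2 := csnd_d (f • 𝟙 K) (rfl : i + 1 = i + 1) z.1
        rw [zmod_d rfl z, map_zero, smulId_f_apply] at h2
        exact h2.symm
      have hb : csnd (f • 𝟙 K) i z.1 + f • a ∈ Zmod K i := mem_zmod (by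
        rw [map_add, map_smul, ha]
        exact (add_comm _ _).trans hz2)
      refine ⟨cls K i ⟨_, hb⟩, ?_⟩
      show (HomologicalComplex.homologyMap (mappingCone.inr (f • 𝟙 K)) i).hom (cls K i _) = _
      rw [homologyMap_cls, ← sub_eq_zero, ← map_sub]
      refine (cls_eq_zero (i := i - 1) (by omega) _).mpr
        ⟨cmk (f • 𝟙 K) (i - 1) i (by omega) a 0, cone_ext (f • 𝟙 K) rfl ?_ ?_⟩
      · show _ = c1 ((mappingCone.inr (f • 𝟙 K)).f i _ - z.1)
        rw [map_sub, (hinr _).1, zero_sub, ← ha]
        refine (cfst_d (f • 𝟙 K) (by omega : i - 1 + 1 = i) rfl _).trans ?_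
        rw [cfst_cmk]
      · show _ = csnd (f • 𝟙 K) i ((mappingCone.inr (f • 𝟙 K)).f i _ - z.1)
        rw [map_sub, (hinr _).2]
        refine (csnd_d (f • 𝟙 K) (by omega : i - 1 + 1 = i) _).trans ?_
        rw [cfst_cmk, csnd_cmk, map_zero, smulId_f_apply, add_zero]
        exact eq_sub_of_add_eq (add_comm _ _)
    · rintro ⟨y', hy'⟩
      obtain ⟨x, rfl⟩ := cls_surjective K i y'
      rw [← hy']
      show v ((HomologicalComplex.homologyMap (mappingCone.inr (f • 𝟙 K)) i).hom (cls K i x)) = 0
      rw [homologyMap_cls, show v (cls C i (mapZ i (mappingCone.inr (f • 𝟙 K)) x)) = ψ _ from descH_cls C i ψ hψ _]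
      refine (cls_eq_zero (i := i) rfl _).mpr ⟨0, ?_⟩
      rw [map_zero]
      exact (hinr x.1).1.symm
  · refine le_antisymm ?_ (fun y hy => ?_)
    · rintro _ ⟨y, rfl⟩
      obtain ⟨z, rfl⟩ := cls_surjective C i y
      rw [LinearMap.mem_ker, show v (cls C i z) = ψ z from descH_cls C i ψ hψ z]
      show f • cls K (i + 1) _ = 0
      rw [← map_smul]
      refine (cls_eq_zero (i := i) rfl _).mpr ⟨-(csnd (f • 𝟙 K) i z.1), ?_⟩
      show _ = f • c1 z.1
      have h2 := csnd_d (f • 𝟙 K) (rfl : i + 1 = i + 1) z.1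
      rw [zmod_d rfl z, map_zero, smulId_f_apply] at h2
      rw [map_neg]
      exact neg_eq_iff_add_eq_zero.mpr ((add_comm _ _).trans h2.symm)
    · obtain ⟨x, rfl⟩ := cls_surjective K (i + 1) y
      rw [LinearMap.mem_ker] at hy
      change f • cls K (i + 1) x = 0 at hy
      rw [← map_smul, cls_eq_zero (i := i) rfl] at hy
      obtain ⟨b, hb⟩ := hy
      have hz : cmk (f • 𝟙 K) i (i + 1) rfl x.1 (-b) ∈ Zmod C i := by
        refine mem_zmod (cone_ext (f • 𝟙 K) (rfl : i + 1 + 1 = i + 1 + 1) ?_ ?_)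
        · rw [map_zero]
          refine (cfst_d (f • 𝟙 K) rfl rfl _).trans ?_
          rw [cfst_cmk, zmod_d rfl x, neg_zero]
        · rw [map_zero]
          refine (csnd_d (f • 𝟙 K) rfl _).trans ?_
          rw [cfst_cmk, csnd_cmk, map_neg, hb, smulId_f_apply]
          exact add_neg_cancel _
      refine ⟨cls C i ⟨_, hz⟩, ?_⟩
      rw [show v (cls C i ⟨_, hz⟩) = ψ _ from descH_cls C i ψ hψ _]
      exact congrArg (cls K (i + 1)) (Subtype.ext (cfst_cmk (f • 𝟙 K) rfl x.1 (-b)))

theorem length_cone {i j : ℤ} (h : i + 1 = j) :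
    Module.length A ((mappingCone (f • 𝟙 K)).homology i) =
      Module.length A (K.homology i ⧸ srange f (K.homology i)) + Module.length A (sker f (K.homology j)) := by
  obtain ⟨u, v, hu, huv, hv⟩ := exists_cone_seq f K h
  have hle : srange f (K.homology i) ≤ LinearMap.ker u := hu.ge
  refine (Module.length_eq_add_of_exact (Submodule.liftQ _ u hle) v.rangeRestrict ?_
    (LinearMap.surjective_rangeRestrict v) ?_).trans ?_
  · rw [← LinearMap.ker_eq_bot, Submodule.ker_liftQ, hu, Submodule.mkQ_map_self]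
  · rw [LinearMap.exact_iff, LinearMap.ker_rangeRestrict, Submodule.range_liftQ]
    exact huv.linearMap_ker_eq
  · rw [(LinearEquiv.ofEq _ _ hv).length_eq]

theorem length_cone_le {i j : ℤ} (h : i + 1 = j) :
    Module.length A ((mappingCone (f • 𝟙 K)).homology i) ≤
      Module.length A (K.homology i) + Module.length A (K.homology j) := by
  rw [length_cone f K h]
  exact add_le_add (Module.length_le_of_surjective _ (Submodule.mkQ_surjective _))
    (Module.length_le_of_injective _ (Submodule.subtype_injective _))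

theorem finite_cone [IsNoetherianRing A] (hK : ∀ i, Module.Finite A (K.homology i)) (i : ℤ) :
    Module.Finite A ((mappingCone (f • 𝟙 K)).homology i) := by
  obtain ⟨u, v, hu, huv, hv⟩ := exists_cone_seq f K (rfl : i + 1 = i + 1)
  haveI := hK i
  haveI := hK (i + 1)
  haveI : Module.Finite A (LinearMap.range v) :=
    Module.Finite.iff_fg.mpr (IsNoetherian.noetherian _)
  haveI : Module.Finite A (LinearMap.range u) := Module.Finite.range u
  exact Module.Finite.of_exact (f := (LinearMap.range u).subtype) (g := v.rangeRestrict)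
    (by rw [LinearMap.exact_iff, LinearMap.ker_rangeRestrict, Submodule.range_subtype]; exact huv.linearMap_ker_eq)
    (LinearMap.surjective_rangeRestrict v)

end ConeSeq

end Groth.Agent.KEulerLib
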