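import Groth.Agent.KEulerLib.Main
import Mathlib.RingTheory.Ideal.AssociatedPrime.Finiteness
import Mathlib.RingTheory.KrullDimension.Regular

/-!
# Vanishing, positivity and rank formula for Koszul Euler characteristics
-/

set_option autoImplicit false
set_option linter.unusedSectionVars false
set_option linter.style.haveILetI false
set_option backward.isDefEq.respectTransparency false
universe u

open IsLocalRing
open scoped Pointwise TensorProduct

noncomputable section

namespace Groth.Agent.KEulerLib

variable {A : Type u} [CommRing A]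

theorem srange_eq_smul_top (f : A) (N : Type u) [AddCommGroup N] [Module A N] :
    srange f N = f • (⊤ : Submodule A N) := by
  ext y
  rw [Submodule.mem_smul_pointwise_iff_exists]
  exact ⟨fun ⟨x, hx⟩ => ⟨x, trivial, hx⟩, fun ⟨x, _, hx⟩ => ⟨x, hx⟩⟩

theorem supportDim_exact_le {N₁ N₂ N₃ : Type u} [AddCommGroup N₁] [Module A N₁] [AddCommGroup N₂] [Module A N₂]
    [AddCommGroup N₃] [Module A N₃] (f : N₁ →ₗ[A] N₂) (g : N₂ →ₗ[A] N₃) (hf : Function.Injective f)
    (hg : Function.Surjective g) (hfg : Function.Exact f g) :
    Module.supportDim A N₂ ≤ max (Module.supportDim A N₁) (Module.supportDim A N₃) := by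
  refine iSup_le fun l => ?_
  rcases ((Module.support_of_exact hfg hf hg).subset l.head.2) with h | h
  · exact le_max_of_le_left
      (HSLib.le_supportDim_of_chain (LTSeries.map l Subtype.val fun _ _ hh => hh) h)
  · exact le_max_of_le_right
      (HSLib.le_supportDim_of_chain (LTSeries.map l Subtype.val fun _ _ hh => hh) h)

variable [IsNoetherianRing A] [IsLocalRing A]

theorem exists_nat_supportDim (N : Type u) [AddCommGroup N] [Module A N] [Nontrivial N] :
    ∃ n : ℕ, Module.supportDim A N = (n : WithBot ℕ∞) := by
  have h1 := Module.supportDim_ne_bot_of_nontrivial A N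
  have h2 : Module.supportDim A N ≠ ⊤ := ne_top_of_le_ne_top ringKrullDim_ne_top (Module.supportDim_le_ringKrullDim A N)
  obtain ⟨m, hm⟩ := WithBot.ne_bot_iff_exists.mp h1
  cases m with
  | top => exact absurd hm.symm h2
  | coe k => exact ⟨k, hm.symm⟩

theorem supportDim_quot_srange {f : A} (hf : f ∈ maximalIdeal A) (N : Type u) [AddCommGroup N] [Module A N]
    [Module.Finite A N] (hreg : IsSMulRegular N f) :
    Module.supportDim A (N ⧸ srange f N) + 1 = Module.supportDim A N := by
  rw [Module.supportDim_eq_of_equiv (Submodule.quotEquivOfEq _ _ (srange_eq_smul_top f N))]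
  exact Module.supportDim_quotSMulTop_succ_eq_supportDim hreg hf

theorem supportDim_le_of_dom {r : List A} (hr : ∀ a ∈ r, a ∈ maximalIdeal A) (N : Type u) [AddCommGroup N]
    [Module A N] [Module.Finite A N] (h : Dom r N) : Module.supportDim A N ≤ (r.length : WithBot ℕ∞) :=
  HSLib.supportDim_le_of_params r.length N (fun i => r.get i)
    (fun i => by rw [IsLocalRing.ringJacobson_eq_maximalIdeal]; exact hr _ (r.get_mem i))
    fun p hp hle => h p hp (ofList_le_iff.mpr fun a ha => by
      obtain ⟨i, rfl⟩ := List.get_of_mem ha
      exact hle (Ideal.subset_span ⟨i, rfl⟩))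

/-- The two shapes of a scalar on a prime quotient. -/
theorem E_cons_prime {f : A} (r : List A) (N : Type u) [AddCommGroup N] [Module A N] (p : PrimeSpectrum A)
    (e : N ≃ₗ[A] A ⧸ p.asIdeal) :
    ((∀ x : N, f • x = 0) ∧ E (f :: r) N = 0 ∧ Nonempty ((N ⧸ srange f N) ≃ₗ[A] N)) ∨
      (IsSMulRegular N f ∧ E (f :: r) N = E r (N ⧸ srange f N)) := by
  by_cases hf : f ∈ p.asIdeal
  · have h0 : ∀ x : N, f • x = 0 := fun x => e.injective (by
      obtain ⟨a, ha⟩ := Ideal.Quotient.mk_surjective (e x)
      rw [map_smul, map_zero, ← ha]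
      exact Ideal.Quotient.eq_zero_iff_mem.mpr (p.asIdeal.mul_mem_right a hf))
    have h1 : srange f N = ⊥ := by rw [LinearMap.range_eq_bot]; exact LinearMap.ext h0
    have h2 : sker f N = ⊤ := by rw [LinearMap.ker_eq_top]; exact LinearMap.ext h0
    refine Or.inl ⟨h0, ?_, ⟨Submodule.quotEquivOfEqBot _ h1⟩⟩
    rw [E_cons, E_congr r (Submodule.quotEquivOfEqBot _ h1),
      E_congr r ((LinearEquiv.ofEq _ _ h2).trans Submodule.topEquiv), sub_self]
  · have hreg : IsSMulRegular N f := fun x y hxy => by
      change f • x = f • y at hxy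
      apply e.injective
      have hxy' := congrArg e hxy
      rw [map_smul, map_smul] at hxy'
      obtain ⟨a, ha⟩ := Ideal.Quotient.mk_surjective (e x)
      obtain ⟨b, hb⟩ := Ideal.Quotient.mk_surjective (e y)
      rw [← ha, ← hb] at hxy' ⊢
      change Ideal.Quotient.mk p.asIdeal (f * a) = Ideal.Quotient.mk p.asIdeal (f * b) at hxy'
      rw [Ideal.Quotient.eq, ← mul_sub] at hxy'
      rw [Ideal.Quotient.eq]
      exact (p.isPrime.mem_or_mem hxy').resolve_left hf
    haveI : Subsingleton (sker f N) := ⟨fun x y => Subtype.ext (hreg (by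
      show f • x.1 = f • y.1
      rw [show f • x.1 = 0 from x.2, show f • y.1 = 0 from y.2]))⟩
    exact Or.inr ⟨hreg, by rw [E_cons, E_subsingleton r (sker f N), sub_zero]⟩

theorem E_eq_zero_of_supportDim_lt : ∀ (r : List A), (∀ a ∈ r, a ∈ maximalIdeal A) →
    ∀ (N : Type u) [AddCommGroup N] [Module A N] [Module.Finite A N], Dom r N →
      Module.supportDim A N < (r.length : WithBot ℕ∞) → E r N = 0
  | [], _, N, _, _, _, _, hd => by
    rcases subsingleton_or_nontrivial N with hN | hN
    · exact E_subsingleton _ _
    · obtain ⟨n, hn⟩ := exists_nat_supportDim (A := A) N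
      rw [hn, List.length_nil] at hd
      exact absurd hd (not_lt.mpr (Nat.cast_le.mpr n.zero_le))
  | f :: r, hr, N, _, _, hfin, hN, hd => by
    have hf := hr f List.mem_cons_self
    have ih := E_eq_zero_of_supportDim_lt r fun a ha => hr a (List.mem_cons_of_mem _ ha)
    revert hN hd
    induction hfin using IsNoetherianRing.induction_on_isQuotientEquivQuotientPrime A with
    | subsingleton N => exact fun _ _ => E_subsingleton _ _
    | quotient N p e =>
      intro hN hd
      rcases E_cons_prime r N p e (f := f) with ⟨-, h, -⟩ | ⟨hreg, h⟩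
      · exact h
      · rw [h]
        rcases subsingleton_or_nontrivial (N ⧸ srange f N) with h' | h'
        · exact E_subsingleton _ _
        · refine ih _ hN.quot ?_
          obtain ⟨n, hn⟩ := exists_nat_supportDim (A := A) (N ⧸ srange f N)
          rw [← supportDim_quot_srange hf N hreg, hn, List.length_cons] at hd
          rw [hn]
          exact_mod_cast Nat.lt_of_succ_lt_succ (by exact_mod_cast hd : n + 1 < r.length + 1)
    | exact N₁ N₂ N₃ i q hi hq hiq h1 h3 =>
      intro hN hd
      rw [E_add hN i q hi hq hiq, h1 (hN.of_injective i hi) (lt_of_le_of_lt (Module.supportDim_le_of_injective i hi) hd),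
        h3 (hN.of_surjective q hq) (lt_of_le_of_lt (Module.supportDim_le_of_surjective q hq) hd), add_zero]

theorem E_nonneg : ∀ (r : List A), (∀ a ∈ r, a ∈ maximalIdeal A) →
    ∀ (N : Type u) [AddCommGroup N] [Module A N] [Module.Finite A N], Dom r N →
      0 ≤ E r N ∧ (Module.supportDim A N = (r.length : WithBot ℕ∞) → 0 < E r N)
  | [], _, N, _, _, _, hN => by
    refine ⟨Int.natCast_nonneg _, fun hd => ?_⟩
    haveI : Nontrivial N := (Module.supportDim_ne_bot_iff_nontrivial A N).mp (by rw [hd]; exact WithBot.coe_ne_bot)
    rw [E_nil]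
    have h := length_ne_top_of_dom hN
    have hpos : 0 < Module.length A N := Module.length_pos
    obtain ⟨k, hk⟩ := ENat.ne_top_iff_exists.mp h
    rw [← hk] at hpos ⊢
    simp only [ENat.toNat_coe]
    exact_mod_cast hpos
  | f :: r, hr, N, _, _, hfin, hN => by
    have hf := hr f List.mem_cons_self
    have hr' : ∀ a ∈ r, a ∈ maximalIdeal A := fun a ha => hr a (List.mem_cons_of_mem _ ha)
    have ih := E_nonneg r hr'
    revert hN
    induction hfin using IsNoetherianRing.induction_on_isQuotientEquivQuotientPrime A with
    | subsingleton N =>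
      refine fun _ => ⟨(E_subsingleton (f :: r) N).ge, fun hd => ?_⟩
      rw [Module.supportDim_eq_bot_of_subsingleton] at hd
      exact absurd hd WithBot.bot_ne_coe
    | quotient N p e =>
      intro hN
      rcases E_cons_prime r N p e (f := f) with ⟨-, h, ⟨e'⟩⟩ | ⟨hreg, h⟩
      · refine ⟨h.ge, fun hd => absurd hd (ne_of_lt (lt_of_le_of_lt
          ((Module.supportDim_eq_of_equiv e').symm.le.trans (supportDim_le_of_dom hr' _ hN.quot)) ?_))⟩
        rw [List.length_cons]
        exact_mod_cast Nat.lt_succ_self r.length
      · rw [h]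
        refine ⟨(ih _ hN.quot).1, fun hd => (ih _ hN.quot).2 ?_⟩
        rw [← supportDim_quot_srange hf N hreg, List.length_cons] at hd
        rcases subsingleton_or_nontrivial (N ⧸ srange f N) with h' | h'
        · rw [Module.supportDim_eq_bot_of_subsingleton, WithBot.bot_add] at hd
          exact absurd hd WithBot.bot_ne_coe
        · obtain ⟨n, hn⟩ := exists_nat_supportDim (A := A) (N ⧸ srange f N)
          rw [hn] at hd ⊢
          have : n + 1 = r.length + 1 := by exact_mod_cast hd
          exact_mod_cast Nat.succ_injective this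
    | exact N₁ N₂ N₃ i q hi hq hiq h1 h3 =>
      intro hN
      have a1 := h1 (hN.of_injective i hi)
      have a3 := h3 (hN.of_surjective q hq)
      rw [E_add hN i q hi hq hiq]
      refine ⟨by omega, fun hd => ?_⟩
      rcases le_max_iff.mp (hd.ge.trans (supportDim_exact_le i q hi hq hiq)) with h | h
      · have := a1.2 (le_antisymm ((Module.supportDim_le_of_injective i hi).trans hd.le) h)
        omega
      · have := a3.2 (le_antisymm ((Module.supportDim_le_of_surjective q hq).trans hd.le) h)
        omega

section Rank

variable [IsDomain A]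

/-- The generic rank. -/
def rk (N : Type u) [AddCommGroup N] [Module A N] : ℤ :=
  (Module.finrank (FractionRing A) (FractionRing A ⊗[A] N) : ℤ)

theorem rk_subsingleton (N : Type u) [AddCommGroup N] [Module A N] [Subsingleton N] : rk (A := A) N = 0 := by
  haveI : Subsingleton (FractionRing A ⊗[A] N) := subsingleton_of_forall_eq 0 fun z => by
    induction z using TensorProduct.induction_on with
    | zero => rfl
    | tmul k x => rw [Subsingleton.elim x 0, TensorProduct.tmul_zero]
    | add a b ha hb => rw [ha, hb, add_zero]
  simp [rk, Module.finrank_zero_of_subsingleton]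

theorem rk_add {N₁ N₂ N₃ : Type u} [AddCommGroup N₁] [Module A N₁] [AddCommGroup N₂] [Module A N₂]
    [AddCommGroup N₃] [Module A N₃] [Module.Finite A N₂] (f : N₁ →ₗ[A] N₂) (g : N₂ →ₗ[A] N₃)
    (hf : Function.Injective f) (hg : Function.Surjective g) (hfg : Function.Exact f g) :
    rk (A := A) N₂ = rk (A := A) N₁ + rk (A := A) N₃ := by
  let K := FractionRing A
  haveI : Module.Flat A K := IsLocalization.flat K (nonZeroDivisors A)
  have hf' : Function.Injective (f.baseChange K) := Module.Flat.lTensor_preserves_injective_linearMap f hf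
  have hg' : Function.Surjective (g.baseChange K) := LinearMap.lTensor_surjective _ hg
  have he : Function.Exact (f.baseChange K) (g.baseChange K) := lTensor_exact K hfg hg
  haveI : Module.Finite K (K ⊗[A] N₂) := inferInstance
  have h := LinearMap.finrank_range_add_finrank_ker (g.baseChange K)
  rw [LinearMap.range_eq_top.mpr hg', finrank_top, he.linearMap_ker_eq, LinearMap.finrank_range_of_inj hf'] at h
  simp only [rk]
  change (_ : ℕ) + _ = _ at h
  rw [show Module.finrank (FractionRing A) (FractionRing A ⊗[A] N₂) =
    Module.finrank (FractionRing A) (FractionRing A ⊗[A] N₁) + Module.finrank (FractionRing A) (FractionRing A ⊗[A] N₃) from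
      h.symm.trans (add_comm _ _)]
  push_cast
  rfl

theorem E_eq_rk_mul {r : List A} (hd : ringKrullDim A = (r.length : WithBot ℕ∞)) (hr : ∀ a ∈ r, a ∈ maximalIdeal A)
    (hA : Dom r A) (N : Type u) [AddCommGroup N] [Module A N] [hfin : Module.Finite A N] :
    E r N = rk (A := A) N * E r A := by
  have hdom : ∀ (X : Type u) [AddCommGroup X] [Module A X], Dom r X := fun X _ _ p _ hp => hA p (by
    rw [Module.mem_support_iff_of_finite]
    intro a ha
    rw [show a = 0 by simpa using Module.mem_annihilator.mp ha 1]
    exact p.asIdeal.zero_mem) hp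
  induction hfin using IsNoetherianRing.induction_on_isQuotientEquivQuotientPrime A with
  | subsingleton N => rw [E_subsingleton, rk_subsingleton, zero_mul]
  | quotient N p e =>
    by_cases hp : p.asIdeal = ⊥
    · let e' : N ≃ₗ[A] A := e.trans (Submodule.quotEquivOfEqBot _ hp)
      have h1 : rk (A := A) N = 1 := by
        show ((Module.finrank (FractionRing A) (FractionRing A ⊗[A] N) : ℕ) : ℤ) = 1
        rw [(LinearEquiv.baseChange A (FractionRing A) N A e').finrank_eq,
          (TensorProduct.AlgebraTensorModule.rid A (FractionRing A) (FractionRing A)).finrank_eq, Module.finrank_self]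
        rfl
      rw [h1, one_mul, E_congr r e']
    · obtain ⟨a, ha, ha0⟩ := Submodule.exists_mem_ne_zero_of_ne_bot hp
      have h0 : ∀ x : N, a • x = 0 := fun x => e.injective (by
        obtain ⟨b, hb⟩ := Ideal.Quotient.mk_surjective (e x)
        rw [map_smul, map_zero, ← hb]
        exact Ideal.Quotient.eq_zero_iff_mem.mpr (p.asIdeal.mul_mem_right b ha))
      haveI : Subsingleton (FractionRing A ⊗[A] N) := subsingleton_of_forall_eq 0 fun z => by
        induction z using TensorProduct.induction_on with
        | zero => rfl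
        | tmul k x =>
          have hu : algebraMap A (FractionRing A) a ≠ 0 := fun h => ha0 ((IsFractionRing.injective A (FractionRing A)) (h.trans (map_zero _).symm))
          rw [show k = a • ((algebraMap A (FractionRing A) a)⁻¹ * k) by
            rw [Algebra.smul_def, ← mul_assoc, mul_inv_cancel₀ hu, one_mul], TensorProduct.smul_tmul, h0,
            TensorProduct.tmul_zero]
        | add a b ha hb => rw [ha, hb, add_zero]
      have h1 : rk (A := A) N = 0 := by simp [rk, Module.finrank_zero_of_subsingleton]
      rw [h1, zero_mul]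
      refine E_eq_zero_of_supportDim_lt r hr N (hdom N) ?_
      rw [Module.supportDim_eq_of_equiv e, Module.supportDim_quotient_eq_ringKrullDim]
      have hlt : ringKrullDim (A ⧸ p.asIdeal) + 1 ≤ ringKrullDim A :=
        (add_le_add (ringKrullDim_le_of_surjective (Ideal.Quotient.factor
          ((Ideal.span_singleton_le_iff_mem _).mpr ha)) (Ideal.Quotient.factor_surjective _)) le_rfl).trans
          (ringKrullDim_quotient_succ_le_of_nonZeroDivisor (mem_nonZeroDivisors_of_ne_zero ha0))
      rw [hd] at hlt
      rcases eq_or_ne (ringKrullDim (A ⧸ p.asIdeal)) ⊥ with hb | hb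
      · rw [hb]; exact WithBot.bot_lt_coe _
      · obtain ⟨m, hm⟩ := WithBot.ne_bot_iff_exists.mp hb
        rw [← hm] at hlt ⊢
        cases m with
        | top =>
          rw [← WithBot.coe_one, ← WithBot.coe_add, top_add] at hlt
          exact absurd (WithBot.coe_le_coe.mp hlt) (by simp)
        | coe m =>
          have : m + 1 ≤ r.length := by exact_mod_cast hlt
          exact_mod_cast this
  | exact N₁ N₂ N₃ i q hi hq hiq h1 h3 =>
    rw [E_add (hdom N₂) i q hi hq hiq, h1, h3, rk_add i q hi hq hiq, add_mul]

end Rank

end Groth.Agent.KEulerLib
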