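import Groth.Agent.KEulerLib.Cone
import Groth.Agent.HSLib.Dim
import Groth.Agent.SopLenLib.Count

/-!
# The iterated difference function computing Koszul Euler characteristics
-/

set_option autoImplicit false
set_option linter.unusedSectionVars false
set_option linter.style.haveILetI false
set_option backward.isDefEq.respectTransparency false
universe u

noncomputable section

namespace Groth.Agent.KEulerLib

variable {A : Type u} [CommRing A]

/-- `E (f :: r) N = E r (N/fN) - E r (N[f])`, starting from the length. -/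
def E : List A → ∀ (N : Type u) [AddCommGroup N] [Module A N], ℤ
  | [], N, _, _ => ((Module.length A N).toNat : ℤ)
  | f :: r, N, _, _ => E r (N ⧸ srange f N) - E r (sker f N)

theorem E_nil (N : Type u) [AddCommGroup N] [Module A N] : E ([] : List A) N = ((Module.length A N).toNat : ℤ) := rfl

theorem E_cons (f : A) (r : List A) (N : Type u) [AddCommGroup N] [Module A N] :
    E (f :: r) N = E r (N ⧸ srange f N) - E r (sker f N) := rfl

/-- The ideal cuts the support down to closed points. -/
def Dom (r : List A) (N : Type u) [AddCommGroup N] [Module A N] : Prop :=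
  ∀ p ∈ Module.support A N, Ideal.ofList r ≤ p.asIdeal → p.asIdeal.IsMaximal

theorem ofList_le_iff {r : List A} {P : Ideal A} : Ideal.ofList r ≤ P ↔ ∀ a ∈ r, a ∈ P := by
  rw [Ideal.ofList, Ideal.span_le]
  exact Iff.rfl

variable {N N' : Type u} [AddCommGroup N] [Module A N] [AddCommGroup N'] [Module A N']

theorem Dom.of_injective {r : List A} (h : Dom r N') (f : N →ₗ[A] N') (hf : Function.Injective f) : Dom r N :=
  fun p hp => h p (Module.support_subset_of_injective f hf hp)

theorem Dom.of_surjective {r : List A} (h : Dom r N) (f : N →ₗ[A] N') (hf : Function.Surjective f) : Dom r N' :=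
  fun p hp => h p (Module.support_subset_of_surjective f hf hp)

theorem Dom.mono {r s : List A} (h : Dom r N) (hle : ∀ a ∈ r, a ∈ s) : Dom s N := fun p hp hs =>
  h p hp (ofList_le_iff.mpr fun a ha => ofList_le_iff.mp hs a (hle a ha))

theorem mem_of_mem_support_of_smul_eq_zero [Module.Finite A N] {f : A} (h : ∀ x : N, f • x = 0)
    {p : PrimeSpectrum A} (hp : p ∈ Module.support A N) : f ∈ p.asIdeal :=
  (Module.mem_support_iff_of_finite.mp hp) (Module.mem_annihilator.mpr h)

theorem smul_quot_srange (f : A) (x : N ⧸ srange f N) : f • x = 0 := by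
  obtain ⟨x, rfl⟩ := Submodule.Quotient.mk_surjective _ x
  rw [← Submodule.Quotient.mk_smul, Submodule.Quotient.mk_eq_zero]
  exact ⟨x, rfl⟩

theorem smul_sker (f : A) (x : sker f N) : f • x = 0 := Subtype.ext (LinearMap.mem_ker.mp x.2)

theorem Dom.quot [Module.Finite A N] {f : A} {r : List A} (h : Dom (f :: r) N) : Dom r (N ⧸ srange f N) :=
  fun p hp hr => h p (Module.support_subset_of_surjective _ (Submodule.mkQ_surjective _) hp)
    (ofList_le_iff.mpr (List.forall_mem_cons.mpr
      ⟨mem_of_mem_support_of_smul_eq_zero (smul_quot_srange f) hp, ofList_le_iff.mp hr⟩))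

theorem Dom.ker [IsNoetherianRing A] [Module.Finite A N] {f : A} {r : List A} (h : Dom (f :: r) N) :
    Dom r (sker f N) :=
  fun p hp hr => h p (Module.support_subset_of_injective _ (Submodule.subtype_injective _) hp)
    (ofList_le_iff.mpr (List.forall_mem_cons.mpr
      ⟨mem_of_mem_support_of_smul_eq_zero (smul_sker f) hp, ofList_le_iff.mp hr⟩))

theorem dom_pow {f : A} {m : ℕ} {r : List A} (h : Dom (f :: r) N) : Dom (f ^ m :: r) N := fun p hp hr =>
  h p hp (ofList_le_iff.mpr (List.forall_mem_cons.mpr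
    ⟨p.isPrime.mem_of_pow_mem m (ofList_le_iff.mp hr _ List.mem_cons_self),
      fun a ha => ofList_le_iff.mp hr a (List.mem_cons_of_mem _ ha)⟩))

theorem dom_mul {x y : A} {r s : List A} (hx : Dom (s ++ x :: r) N) (hy : Dom (s ++ y :: r) N) :
    Dom (s ++ (x * y) :: r) N := fun p hp hr => by
  have h := ofList_le_iff.mp hr
  have hmem : ∀ a ∈ s ++ r, a ∈ p.asIdeal := fun a ha =>
    h a (by rcases List.mem_append.mp ha with h' | h' <;> simp [h'])
  rcases p.isPrime.mem_or_mem (h (x * y) (by simp)) with hxy | hxy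
  · refine hx p hp (ofList_le_iff.mpr fun a ha => ?_)
    rcases List.mem_append.mp ha with h' | h'
    · exact hmem a (List.mem_append_left _ h')
    · rcases List.mem_cons.mp h' with rfl | h''
      · exact hxy
      · exact hmem a (List.mem_append_right _ h'')
  · refine hy p hp (ofList_le_iff.mpr fun a ha => ?_)
    rcases List.mem_append.mp ha with h' | h'
    · exact hmem a (List.mem_append_left _ h')
    · rcases List.mem_cons.mp h' with rfl | h''
      · exact hxy
      · exact hmem a (List.mem_append_right _ h'')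

theorem length_ne_top_of_dom [IsNoetherianRing A] [Module.Finite A N] (h : Dom ([] : List A) N) :
    Module.length A N ≠ ⊤ :=
  HSLib.length_ne_top_of_support fun p hp => h p hp (ofList_le_iff.mpr (by simp))

theorem E_subsingleton : ∀ (r : List A) (N : Type u) [AddCommGroup N] [Module A N] [Subsingleton N], E r N = 0
  | [], N, _, _, _ => by rw [E_nil, Module.length_eq_zero]; rfl
  | f :: r, N, _, _, _ => by
    haveI : Subsingleton (N ⧸ srange f N) := (Submodule.mkQ_surjective _).subsingleton
    rw [E_cons, E_subsingleton r (N ⧸ srange f N), E_subsingleton r (sker f N), sub_zero]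

theorem E_congr : ∀ (r : List A) {N N' : Type u} [AddCommGroup N] [Module A N] [AddCommGroup N'] [Module A N'],
    (N ≃ₗ[A] N') → E r N = E r N'
  | [], N, N', _, _, _, _, e => by rw [E_nil, E_nil, e.length_eq]
  | f :: r, N, N', _, _, _, _, e => by
    have h1 : (srange f N).map (e : N →ₗ[A] N') = srange f N' := by
      ext y
      constructor
      · rintro ⟨_, ⟨x, rfl⟩, rfl⟩
        exact ⟨e x, (map_smul e f x).symm⟩
      · rintro ⟨x, rfl⟩
        exact ⟨f • e.symm x, ⟨e.symm x, rfl⟩, by simp⟩
    have h2 : (sker f N).map (e : N →ₗ[A] N') = sker f N' := by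
      ext y
      constructor
      · rintro ⟨x, hx, rfl⟩
        exact (map_smul e f x).symm.trans (by rw [show f • x = 0 from hx, map_zero])
      · intro hy
        refine ⟨e.symm y, ?_, e.apply_symm_apply y⟩
        exact (map_smul e.symm f y).symm.trans (by rw [show f • y = 0 from hy, map_zero])
    rw [E_cons, E_cons, E_congr r (Submodule.Quotient.equiv _ _ e h1),
      E_congr r ((e.submoduleMap (sker f N)).trans (LinearEquiv.ofEq _ _ h2))]

/-- The six modules of a scalar along a short exact sequence. -/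
theorem exists_six (g : A) {N₁ N₂ N₃ : Type u} [AddCommGroup N₁] [AddCommGroup N₂] [AddCommGroup N₃]
    [Module A N₁] [Module A N₂] [Module A N₃] (f : N₁ →ₗ[A] N₂) (h : N₂ →ₗ[A] N₃) (hf : Function.Injective f)
    (hh : Function.Surjective h) (hfh : Function.Exact f h) :
    ∃ (F1 : sker g N₁ →ₗ[A] sker g N₂) (F : sker g N₂ →ₗ[A] sker g N₃) (δ : sker g N₃ →ₗ[A] (N₁ ⧸ srange g N₁))
      (G : (N₁ ⧸ srange g N₁) →ₗ[A] (N₂ ⧸ srange g N₂)) (H : (N₂ ⧸ srange g N₂) →ₗ[A] (N₃ ⧸ srange g N₃)),
      Function.Injective F1 ∧ Function.Exact F1 F ∧ Function.Exact F δ ∧ Function.Exact δ G ∧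
        Function.Exact G H ∧ Function.Surjective H := by
  let F1 : sker g N₁ →ₗ[A] sker g N₂ := f.restrict fun x hx => by
    simp only [LinearMap.mem_ker, LinearMap.lsmul_apply] at hx ⊢
    rw [← map_smul, hx, map_zero]
  let F : sker g N₂ →ₗ[A] sker g N₃ := h.restrict fun x hx => by
    simp only [LinearMap.mem_ker, LinearMap.lsmul_apply] at hx ⊢
    rw [← map_smul, hx, map_zero]
  let G : (N₁ ⧸ srange g N₁) →ₗ[A] (N₂ ⧸ srange g N₂) := Submodule.mapQ _ _ f (by
    rintro _ ⟨x, rfl⟩
    exact ⟨f x, (map_smul f g x).symm⟩)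
  let H : (N₂ ⧸ srange g N₂) →ₗ[A] (N₃ ⧸ srange g N₃) := Submodule.mapQ _ _ h (by
    rintro _ ⟨x, rfl⟩
    exact ⟨h x, (map_smul h g x).symm⟩)
  have h1 : f.comp (LinearMap.lsmul A N₁ g) = (LinearMap.lsmul A N₂ g).comp f :=
    LinearMap.ext fun x => map_smul f g x
  have h2 : h.comp (LinearMap.lsmul A N₂ g) = (LinearMap.lsmul A N₃ g).comp h :=
    LinearMap.ext fun x => map_smul h g x
  let δ := SnakeLemma.δ' (LinearMap.lsmul A N₁ g) (LinearMap.lsmul A N₂ g) (LinearMap.lsmul A N₃ g) f h hfh f h hfh
    h1 h2 (sker g N₃).subtype (LinearMap.exact_subtype_ker_map _) (srange g N₁).mkQ (LinearMap.exact_map_mkQ_range _)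
    hh hf
  refine ⟨F1, F, δ, G, H, fun x y hxy => Subtype.ext (hf (congrArg Subtype.val hxy)), ?_, ?_, ?_, ?_, ?_⟩
  · intro y
    constructor
    · intro hy
      obtain ⟨a, ha⟩ := (hfh y.1).1 (congrArg Subtype.val hy)
      exact ⟨⟨a, LinearMap.mem_ker.2 (hf (by rw [LinearMap.lsmul_apply, map_smul, ha, map_zero]; exact y.2))⟩,
        Subtype.ext ha⟩
    · rintro ⟨x, rfl⟩
      exact Subtype.ext (hfh.apply_apply_eq_zero x.1)
  · exact SnakeLemma.exact_δ'_right _ _ _ f h hfh f h hfh h1 h2
      (sker g N₂).subtype (LinearMap.exact_subtype_ker_map _) _ _ _ _ hh hf F rfl (Submodule.subtype_injective _)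
  · exact SnakeLemma.exact_δ'_left _ _ _ f h hfh f h hfh h1 h2
      _ _ _ _ (srange g N₂).mkQ (LinearMap.exact_map_mkQ_range _) hh hf G rfl (Submodule.mkQ_surjective _)
  · intro y
    constructor
    · obtain ⟨b, rfl⟩ := Submodule.Quotient.mk_surjective _ y
      intro hy
      obtain ⟨c, hc⟩ := (Submodule.Quotient.mk_eq_zero _).1 hy
      obtain ⟨b', rfl⟩ := hh c
      simp only [LinearMap.lsmul_apply] at hc
      obtain ⟨a, ha⟩ := (hfh (b - g • b')).1 (by rw [map_sub, map_smul, hc, sub_self])
      refine ⟨Submodule.Quotient.mk a, (Submodule.Quotient.eq _).2 ⟨-b', ?_⟩⟩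
      show g • -b' = f a - b
      rw [ha, smul_neg]
      abel
    · rintro ⟨x, rfl⟩
      obtain ⟨a, rfl⟩ := Submodule.Quotient.mk_surjective _ x
      show Submodule.Quotient.mk (h (f a)) = 0
      rw [hfh.apply_apply_eq_zero]
      exact Submodule.Quotient.mk_zero _
  · intro y
    obtain ⟨c, rfl⟩ := Submodule.Quotient.mk_surjective _ y
    obtain ⟨b, rfl⟩ := hh c
    exact ⟨Submodule.Quotient.mk b, rfl⟩

/-- Additivity of `E` on short exact sequences. -/
def IsAdditive (r : List A) : Prop :=
  ∀ {N₁ N₂ N₃ : Type u} [AddCommGroup N₁] [Module A N₁] [AddCommGroup N₂] [Module A N₂] [AddCommGroup N₃]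
    [Module A N₃] [Module.Finite A N₂], Dom r N₂ → ∀ (f : N₁ →ₗ[A] N₂) (g : N₂ →ₗ[A] N₃),
      Function.Injective f → Function.Surjective g → Function.Exact f g → E r N₂ = E r N₁ + E r N₃

theorem alt_six [IsNoetherianRing A] {r : List A} (hadd : IsAdditive r) {M₁ M₂ M₃ M₄ M₅ M₆ : Type u}
    [AddCommGroup M₁] [Module A M₁] [AddCommGroup M₂] [Module A M₂] [AddCommGroup M₃] [Module A M₃]
    [AddCommGroup M₄] [Module A M₄] [AddCommGroup M₅] [Module A M₅] [AddCommGroup M₆] [Module A M₆]
    [Module.Finite A M₂] [Module.Finite A M₃] [Module.Finite A M₄] [Module.Finite A M₅]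
    (h2 : Dom r M₂) (h3 : Dom r M₃) (h4 : Dom r M₄) (h5 : Dom r M₅)
    (f1 : M₁ →ₗ[A] M₂) (f2 : M₂ →ₗ[A] M₃) (f3 : M₃ →ₗ[A] M₄) (f4 : M₄ →ₗ[A] M₅) (f5 : M₅ →ₗ[A] M₆)
    (i1 : Function.Injective f1) (e1 : Function.Exact f1 f2) (e2 : Function.Exact f2 f3) (e3 : Function.Exact f3 f4)
    (e4 : Function.Exact f4 f5) (s5 : Function.Surjective f5) :
    E r M₁ + E r M₃ + E r M₅ = E r M₂ + E r M₄ + E r M₆ := by
  have key : ∀ {X Y Z : Type u} [AddCommGroup X] [Module A X] [AddCommGroup Y] [Module A Y] [AddCommGroup Z]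
      [Module A Z] [Module.Finite A Y] (f : X →ₗ[A] Y) (g : Y →ₗ[A] Z), Dom r Y → Function.Exact f g →
      E r Y = E r (LinearMap.range f) + E r (LinearMap.range g) := fun {X Y Z} _ _ _ _ _ _ _ f g hY he =>
    hadd hY (LinearMap.range f).subtype g.rangeRestrict (Submodule.subtype_injective _)
      (LinearMap.surjective_rangeRestrict g) (by
        rw [LinearMap.exact_iff, LinearMap.ker_rangeRestrict, Submodule.range_subtype]
        exact he.linearMap_ker_eq)
  have h6 : E r (LinearMap.range f5) = E r M₆ :=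
    E_congr r ((LinearEquiv.ofEq _ _ (LinearMap.range_eq_top.mpr s5)).trans Submodule.topEquiv)
  rw [key f1 f2 h2 e1, key f2 f3 h3 e2, key f3 f4 h4 e3, key f4 f5 h5 e4, h6,
    ← E_congr r (LinearEquiv.ofInjective f1 i1)]
  abel

theorem isAdditive [IsNoetherianRing A] : ∀ r : List A, IsAdditive r
  | [] => by
    intro h2 f g hf hg hfg
    have h := length_ne_top_of_dom h2
    rw [Module.length_eq_add_of_exact f g hf hg hfg] at h
    rw [E_nil, E_nil, E_nil, Module.length_eq_add_of_exact f g hf hg hfg,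
      ENat.toNat_add (fun hh => h (by simp [hh])) (fun hh => h (by simp [hh]))]
    push_cast
    rfl
  | a :: r => by
    intro h2 f g hf hg hfg
    haveI := Module.Finite.of_injective f hf
    haveI := Module.Finite.of_surjective g hg
    obtain ⟨F1, F, δ, G, H, i1, e1, e2, e3, e4, s5⟩ := exists_six a f g hf hg hfg
    have h := alt_six (isAdditive r) h2.ker (h2.of_surjective g hg).ker (h2.of_injective f hf).quot h2.quot
      F1 F δ G H i1 e1 e2 e3 e4 s5
    simp only [E_cons]
    omega

theorem E_add [IsNoetherianRing A] {r : List A} {N₁ N₂ N₃ : Type u} [AddCommGroup N₁] [Module A N₁]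
    [AddCommGroup N₂] [Module A N₂] [AddCommGroup N₃] [Module A N₃] [Module.Finite A N₂] (h2 : Dom r N₂)
    (f : N₁ →ₗ[A] N₂) (g : N₂ →ₗ[A] N₃) (hf : Function.Injective f) (hg : Function.Surjective g)
    (hfg : Function.Exact f g) : E r N₂ = E r N₁ + E r N₃ := isAdditive r h2 f g hf hg hfg

/-- Multiplicativity in any slot. -/
theorem E_mul [IsNoetherianRing A] (x y : A) (r : List A) : ∀ (s : List A) (N : Type u) [AddCommGroup N] [Module A N]
    [Module.Finite A N], Dom (s ++ x :: r) N → Dom (s ++ y :: r) N →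
      E (s ++ (x * y) :: r) N = E (s ++ x :: r) N + E (s ++ y :: r) N
  | [], N, _, _, _, hx, hy => by
    change Dom (x :: r) N at hx
    change Dom (y :: r) N at hy
    have hxy : Dom ((x * y) :: r) N := dom_mul (s := []) hx hy
    let F1 : sker y N →ₗ[A] sker (x * y) N := Submodule.inclusion fun z hz => by
      rw [LinearMap.mem_ker, LinearMap.lsmul_apply] at hz ⊢
      rw [mul_smul, hz, smul_zero]
    let F : sker (x * y) N →ₗ[A] sker x N := (LinearMap.lsmul A N y).restrict fun z hz => by
      rw [LinearMap.mem_ker, LinearMap.lsmul_apply] at hz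
      rw [LinearMap.lsmul_apply, LinearMap.mem_ker, LinearMap.lsmul_apply, smul_smul]
      exact hz
    let δ : sker x N →ₗ[A] N ⧸ srange y N := (srange y N).mkQ.comp (sker x N).subtype
    let G : (N ⧸ srange y N) →ₗ[A] N ⧸ srange (x * y) N := Submodule.mapQ _ _ (LinearMap.lsmul A N x) (by
      rintro _ ⟨z, rfl⟩
      exact ⟨z, mul_smul x y z⟩)
    let H : (N ⧸ srange (x * y) N) →ₗ[A] N ⧸ srange x N := Submodule.factor (by
      rintro _ ⟨z, rfl⟩
      exact ⟨y • z, (mul_smul x y z).symm⟩)
    have i1 : Function.Injective F1 := Submodule.inclusion_injective _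
    have e1 : Function.Exact F1 F := fun z => by
      constructor
      · intro hz
        exact ⟨⟨z.1, congrArg Subtype.val hz⟩, rfl⟩
      · rintro ⟨w, rfl⟩
        exact Subtype.ext w.2
    have e2 : Function.Exact F δ := fun z => by
      constructor
      · intro hz
        obtain ⟨w, hw⟩ := (Submodule.Quotient.mk_eq_zero _).mp hz
        refine ⟨⟨w, ?_⟩, Subtype.ext hw⟩
        rw [LinearMap.mem_ker, LinearMap.lsmul_apply, mul_smul, show y • w = z.1 from hw]
        exact z.2
      · rintro ⟨w, rfl⟩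
        exact (Submodule.Quotient.mk_eq_zero _).mpr ⟨w.1, rfl⟩
    have e3 : Function.Exact δ G := fun z => by
      obtain ⟨z, rfl⟩ := Submodule.Quotient.mk_surjective _ z
      constructor
      · intro hz
        obtain ⟨w, hw⟩ := (Submodule.Quotient.mk_eq_zero _).mp hz
        change (x * y) • w = x • z at hw
        refine ⟨⟨z - y • w, ?_⟩, (Submodule.Quotient.eq _).mpr ⟨-w, ?_⟩⟩
        · rw [LinearMap.mem_ker, LinearMap.lsmul_apply, smul_sub, smul_smul, hw, sub_self]
        · show y • -w = z - y • w - z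
          rw [smul_neg]
          abel
      · rintro ⟨w, hw⟩
        rw [← hw]
        show Submodule.Quotient.mk (x • w.1) = 0
        rw [show x • w.1 = 0 from w.2]
        exact Submodule.Quotient.mk_zero _
    have e4 : Function.Exact G H := fun z => by
      obtain ⟨z, rfl⟩ := Submodule.Quotient.mk_surjective _ z
      constructor
      · intro hz
        obtain ⟨w, hw⟩ := (Submodule.Quotient.mk_eq_zero _).mp hz
        exact ⟨Submodule.Quotient.mk w, congrArg Submodule.Quotient.mk hw⟩
      · rintro ⟨w, hw⟩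
        obtain ⟨w, rfl⟩ := Submodule.Quotient.mk_surjective _ w
        rw [← hw]
        exact (Submodule.Quotient.mk_eq_zero _).mpr ⟨w, rfl⟩
    have s5 : Function.Surjective H := fun z => by
      obtain ⟨z, rfl⟩ := Submodule.Quotient.mk_surjective _ z
      exact ⟨Submodule.Quotient.mk z, rfl⟩
    have h := alt_six (isAdditive r) hxy.ker hx.ker hy.quot hxy.quot F1 F δ G H i1 e1 e2 e3 e4 s5
    simp only [List.nil_append, E_cons]
    omega
  | a :: s, N, _, _, _, hx, hy => by
    simp only [List.cons_append, E_cons]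
    rw [E_mul x y r s _ hx.quot hy.quot, E_mul x y r s _ hx.ker hy.ker]
    ring

theorem E_pow_head [IsNoetherianRing A] [Module.Finite A N] (f : A) (r : List A) (h : Dom (f :: r) N) :
    ∀ m : ℕ, E (f ^ m :: r) N = m * E (f :: r) N
  | 0 => by
    haveI : Subsingleton (N ⧸ srange (1 : A) N) := ⟨fun a b => by
      have ha := smul_quot_srange (1 : A) a
      have hb := smul_quot_srange (1 : A) b
      rw [one_smul] at ha hb
      rw [ha, hb]⟩
    haveI : Subsingleton (sker (1 : A) N) := ⟨fun a b => by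
      have ha := smul_sker (1 : A) a
      have hb := smul_sker (1 : A) b
      rw [one_smul] at ha hb
      rw [ha, hb]⟩
    simp [E_cons, E_subsingleton]
  | m + 1 => by
    have hm := E_mul (f ^ m) f r [] N (dom_pow h) h
    simp only [List.nil_append] at hm
    rw [pow_succ, hm, E_pow_head f r h m]
    push_cast
    ring

theorem dom_map_pow (L : List (A × ℕ)) (h : Dom (L.map Prod.fst) N) : Dom (L.map fun p => p.1 ^ p.2) N :=
  fun p hp hr => h p hp (ofList_le_iff.mpr fun a ha => by
    obtain ⟨q, hq, rfl⟩ := List.mem_map.mp ha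
    exact p.isPrime.mem_of_pow_mem q.2 (ofList_le_iff.mp hr _ (List.mem_map.mpr ⟨q, hq, rfl⟩)))

theorem E_map_pow [IsNoetherianRing A] : ∀ (L : List (A × ℕ)) (N : Type u) [AddCommGroup N] [Module A N]
    [Module.Finite A N], Dom (L.map Prod.fst) N →
      E (L.map fun p => p.1 ^ p.2) N = ((L.map Prod.snd).map fun n : ℕ => (n : ℤ)).prod * E (L.map Prod.fst) N
  | [], N, _, _, _, _ => by simp
  | (f, m) :: L, N, _, _, _, h => by
    have h' : Dom (f :: L.map fun p => p.1 ^ p.2) N := fun p hp hr => h p hp (ofList_le_iff.mpr fun a ha => by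
      rcases List.mem_cons.mp ha with rfl | ha'
      · exact ofList_le_iff.mp hr _ List.mem_cons_self
      · obtain ⟨q, hq, rfl⟩ := List.mem_map.mp ha'
        exact p.isPrime.mem_of_pow_mem q.2
          (ofList_le_iff.mp hr _ (List.mem_cons_of_mem _ (List.mem_map.mpr ⟨q, hq, rfl⟩))))
    simp only [List.map_cons, List.prod_cons]
    rw [E_pow_head f _ h' m, E_cons, E_cons, E_map_pow L _ (Dom.quot h), E_map_pow L _ (Dom.ker h)]
    ring

end Groth.Agent.KEulerLib
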