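import Groth.Agent.KEulerLib.Main
import Groth.Agent.HSLib.Mult
import Mathlib.Algebra.Group.ForwardDiff

/-!
# Samuel multiplicity and the Koszul Euler characteristic (Serre's filtration)
-/

set_option autoImplicit false
set_option linter.unusedSectionVars false
set_option linter.style.haveILetI false
set_option backward.isDefEq.respectTransparency false
universe u

open CategoryTheory CategoryTheory.Limits CochainComplex IsLocalRing

noncomputable section

namespace Groth.Agent.KEulerLib

open Groth.Agent.KoszulCech Groth.Agent.LocCohLib CohIII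

variable {A : Type u} [CommRing A] {M : ModuleCat.{u} A}

/-- The layer `J • X`. -/
abbrev lay (J : Ideal A) (X : Type u) [AddCommGroup X] [Module A X] : Submodule A X := J • (⊤ : Submodule A X)

theorem lay_map_le {X Y : Type u} [AddCommGroup X] [Module A X] [AddCommGroup Y] [Module A Y] (J : Ideal A)
    (φ : X →ₗ[A] Y) {x : X} (hx : x ∈ lay J X) : φ x ∈ lay J Y := by
  have h : (lay J X).map φ ≤ lay J Y := by
    rw [Submodule.map_smul'']
    exact Submodule.smul_mono le_rfl le_top
  exact h ⟨x, hx, rfl⟩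

theorem finite_X [IsNoetherianRing A] [Module.Finite A M] : ∀ (l : List A) (i : ℤ), Module.Finite A ((koszulCx M l).X i)
  | [], i => by
    rcases eq_or_ne i 0 with rfl | hi
    · exact Module.Finite.equiv (HomologicalComplex.singleObjXSelf (ComplexShape.up ℤ) 0 M).toLinearEquiv.symm
    · haveI := subsingleton_X M ([] : List A) i (by simp; omega)
      infer_instance
  | f :: l, i => by
    haveI := finite_X l i
    haveI := finite_X l (i + 1)
    let φ : (koszulCx M (f :: l)).X i →ₗ[A] (koszulCx M l).X (i + 1) × (koszulCx M l).X i :=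
      (cfst (f • 𝟙 (koszulCx M l)) i (i + 1) rfl).prod (csnd (f • 𝟙 (koszulCx M l)) i)
    refine Module.Finite.of_injective φ fun x y h => cone_ext (f • 𝟙 (koszulCx M l)) rfl ?_ ?_
    · exact congrArg Prod.fst h
    · exact congrArg Prod.snd h

theorem d_mem_lay : ∀ (l : List A) (J : Ideal A), (∀ a ∈ l, a ∈ J) → ∀ (i : ℤ) (x : (koszulCx M l).X i),
    (koszulCx M l).d i (i + 1) x ∈ lay J ((koszulCx M l).X (i + 1))
  | [], J, _, i, x => by
    rcases eq_or_ne i 0 with rfl | hi
    · haveI := subsingleton_X M ([] : List A) (0 + 1) (Or.inl (by omega))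
      rw [Subsingleton.elim ((koszulCx M ([] : List A)).d 0 (0 + 1) x) 0]
      exact Submodule.zero_mem _
    · haveI := subsingleton_X M ([] : List A) i (by simp; omega)
      rw [Subsingleton.elim x 0, map_zero]
      exact Submodule.zero_mem _
  | f :: l, J, hJ, i, x => by
    have hl : ∀ a ∈ l, a ∈ J := fun a ha => hJ a (List.mem_cons_of_mem _ ha)
    set φ := f • 𝟙 (koszulCx M l)
    have key : (koszulCx M (f :: l)).d i (i + 1) x = cmk φ (i + 1) (i + 1 + 1) rfl
        (-(koszulCx M l).d (i + 1) (i + 1 + 1) (cfst φ i (i + 1) rfl x))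
        (f • cfst φ i (i + 1) rfl x + (koszulCx M l).d i (i + 1) (csnd φ i x)) := by
      refine cone_ext φ (rfl : i + 1 + 1 = i + 1 + 1) ?_ ?_
      · rw [cfst_cmk]; exact cfst_d φ rfl rfl x
      · rw [csnd_cmk]; exact csnd_d φ rfl x
    rw [key]
    refine Submodule.add_mem _ (lay_map_le J _ (Submodule.neg_mem _ (d_mem_lay l J hl (i + 1) _)))
      (lay_map_le J _ (Submodule.add_mem _ ?_ (d_mem_lay l J hl i _)))
    exact Submodule.smul_mem_smul (hJ f List.mem_cons_self) trivial

theorem d_lay {l : List A} {I : Ideal A} (hI : ∀ a ∈ l, a ∈ I) (s : ℕ) {i : ℤ} {x : (koszulCx M l).X i}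
    (hx : x ∈ lay (I ^ s) ((koszulCx M l).X i)) :
    (koszulCx M l).d i (i + 1) x ∈ lay (I ^ (s + 1)) ((koszulCx M l).X (i + 1)) := by
  have h : (lay (I ^ s) ((koszulCx M l).X i)).map ((koszulCx M l).d i (i + 1)).hom ≤
      lay (I ^ (s + 1)) ((koszulCx M l).X (i + 1)) := by
    rw [Submodule.map_smul'', Submodule.map_top]
    refine (Submodule.smul_mono le_rfl ?_).trans (le_of_eq (by rw [← Submodule.mul_smul, ← pow_succ]))
    rintro _ ⟨y, rfl⟩
    exact d_mem_lay l I hI i y
  exact h ⟨x, hx, rfl⟩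

/-- Cycles deep in the filtration are boundaries one step higher. -/
theorem exists_acyclic [IsNoetherianRing A] [Module.Finite A M] (l : List A) (i : ℤ) :
    ∃ c : ℕ, ∀ s, c ≤ s → ∀ x : (koszulCx M l).X i, (koszulCx M l).d i (i + 1) x = 0 →
      x ∈ lay (Ideal.ofList l ^ (s + 1)) ((koszulCx M l).X i) →
        ∃ w ∈ lay (Ideal.ofList l ^ s) ((koszulCx M l).X (i - 1)), (koszulCx M l).d (i - 1) i w = x := by
  haveI := finite_X (M := M) l i
  set I := Ideal.ofList l
  let Z : Submodule A ((koszulCx M l).X i) := LinearMap.ker ((koszulCx M l).d i (i + 1)).hom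
  obtain ⟨k, hk⟩ := Ideal.exists_pow_inf_eq_pow_smul I Z
  refine ⟨k, fun s hs x hxd hx => ?_⟩
  let B : Submodule A ((koszulCx M l).X i) :=
    (lay (I ^ s) ((koszulCx M l).X (i - 1))).map ((koszulCx M l).d (i - 1) i).hom
  suffices h : I ^ (s + 1) • (⊤ : Submodule A _) ⊓ Z ≤ B by
    obtain ⟨w, hw, hwx⟩ := h ⟨hx, hxd⟩
    exact ⟨w, hw, hwx⟩
  have h1 : I ^ (s + 1) • (⊤ : Submodule A _) ⊓ Z ≤ I • (I ^ s • (⊤ : Submodule A _) ⊓ Z) := by
    rw [hk (s + 1) (by omega), show s + 1 - k = (s - k) + 1 by omega, pow_succ', Submodule.mul_smul, hk s hs]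
  refine h1.trans (Submodule.smul_le.mpr fun a ha z hz => ?_)
  obtain ⟨H⟩ := nonempty_homotopy_smul M l a ha
  obtain ⟨h, e⟩ := exists_family_of_homotopy H
  refine ⟨h i (i - 1) (by omega) z, lay_map_le _ _ hz.1, ?_⟩
  have h2 := e i (i - 1) (i + 1) (by omega) rfl z
  rw [smulId_f_apply, show (koszulCx M l).d i (i + 1) z = 0 from hz.2, map_zero, zero_add] at h2
  exact h2.symm

theorem length_quot_lay (J : Ideal A) : ∀ (l : List A) (i : ℤ),
    Module.length A ((koszulCx M l).X i ⧸ lay J ((koszulCx M l).X i)) =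
      (if i ≤ 0 then l.length.choose (-i).toNat else 0 : ℕ) * Module.length A (M ⧸ lay J M)
  | [], i => by
    rcases eq_or_ne i 0 with rfl | hi
    · let e := (HomologicalComplex.singleObjXSelf (ComplexShape.up ℤ) 0 M).toLinearEquiv
      rw [(Submodule.Quotient.equiv (lay J ((koszulCx M ([] : List A)).X 0)) (lay J M) e (by
        rw [Submodule.map_smul'', Submodule.map_top, LinearMap.range_eq_top.mpr e.surjective])).length_eq]
      simp
    · haveI := subsingleton_X M ([] : List A) i (by simp; omega)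
      haveI : Subsingleton ((koszulCx M ([] : List A)).X i ⧸ lay J ((koszulCx M ([] : List A)).X i)) :=
        (Submodule.mkQ_surjective _).subsingleton
      rw [Module.length_eq_zero]
      split_ifs with h
      · rw [List.length_nil, Nat.choose_eq_zero_of_lt (by omega)]
        simp
      · simp
  | f :: l, i => by
    set φ := f • 𝟙 (koszulCx M l)
    let P := (koszulCx M l).X (i + 1)
    let Q := (koszulCx M l).X i
    let mp : P →ₗ[A] (koszulCx M (f :: l)).X i := ((mappingCone.inl φ).v (i + 1) i (by omega)).hom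
    let mq : Q →ₗ[A] (koszulCx M (f :: l)).X i := ((mappingCone.inr φ).f i).hom
    let ψ : (koszulCx M (f :: l)).X i →ₗ[A] (P ⧸ lay J P) × (Q ⧸ lay J Q) :=
      ((lay J P).mkQ.comp (cfst φ i (i + 1) rfl)).prod ((lay J Q).mkQ.comp (csnd φ i))
    have hψ : Function.Surjective ψ := fun ⟨a, b⟩ => by
      obtain ⟨a, rfl⟩ := Submodule.Quotient.mk_surjective _ a
      obtain ⟨b, rfl⟩ := Submodule.Quotient.mk_surjective _ b
      exact ⟨cmk φ i (i + 1) rfl a b, Prod.ext (congrArg Submodule.Quotient.mk (cfst_cmk φ rfl a b))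
        (congrArg Submodule.Quotient.mk (csnd_cmk φ rfl a b))⟩
    have hker : LinearMap.ker ψ = lay J ((koszulCx M (f :: l)).X i) := by
      refine le_antisymm (fun x hx => ?_) (fun x hx => ?_)
      · obtain ⟨h1, h2⟩ := Prod.mk_eq_zero.mp (LinearMap.mem_ker.mp hx :)
        have h : x = cmk φ i (i + 1) rfl (cfst φ i (i + 1) rfl x) (csnd φ i x) :=
          cone_ext φ rfl (cfst_cmk φ rfl _ _).symm (csnd_cmk φ rfl _ _).symm
        rw [h]
        exact Submodule.add_mem _ (lay_map_le J mp ((Submodule.Quotient.mk_eq_zero _).mp h1))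
          (lay_map_le J mq ((Submodule.Quotient.mk_eq_zero _).mp h2))
      · exact LinearMap.mem_ker.mpr (Prod.ext ((Submodule.Quotient.mk_eq_zero _).mpr (lay_map_le J _ hx))
          ((Submodule.Quotient.mk_eq_zero _).mpr (lay_map_le J _ hx)))
    rw [((Submodule.quotEquivOfEq _ _ hker.symm).trans (ψ.quotKerEquivOfSurjective hψ)).length_eq, Module.length_prod,
      length_quot_lay J l (i + 1), length_quot_lay J l i, ← add_mul, ← Nat.cast_add]
    congr 2
    rcases lt_trichotomy i 0 with h | rfl | h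
    · rw [if_pos (by omega), if_pos (by omega), if_pos (by omega),
        show (-i).toNat = (-(i + 1)).toNat + 1 by omega, List.length_cons, Nat.choose_succ_succ']
    · simp
    · rw [if_neg (by omega), if_neg (by omega), if_neg (by omega)]

theorem negOnePow_neg_natCast (r : ℕ) : (((-(r : ℤ)).negOnePow : ℤˣ) : ℤ) = (-1) ^ r := by
  rw [Int.negOnePow_neg]
  induction r with
  | zero => simp
  | succ r ih =>
    rw [Nat.cast_succ, Int.negOnePow_succ, Units.val_neg, ih, pow_succ]
    ring

theorem sum_choose_eval (P : Polynomial ℚ) {d : ℕ} (hd : P.natDegree ≤ d) (y : ℚ) :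
    (∑ r ∈ Finset.range (d + 1), (-1 : ℚ) ^ r * (d.choose r : ℚ) * P.eval (y - r)) = d.factorial * P.coeff d := by
  have h1 : (fwdDiff (1 : ℚ))^[d] (fun x => P.eval x) (y - d) = d.factorial * P.coeff d := by
    rcases hd.lt_or_eq with h | h
    · rw [Polynomial.fwdDiff_iter_eq_zero_of_degree_lt h, Polynomial.coeff_eq_zero_of_natDegree_lt h, mul_zero]
      rfl
    · subst h
      rw [Polynomial.fwdDiff_iter_degree_eq_factorial]
      rw [Polynomial.coeff_natDegree]
      show P.leadingCoeff • (P.natDegree.factorial : ℚ) = _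
      rw [smul_eq_mul, mul_comm]
  rw [fwdDiff_iter_eq_sum_shift] at h1
  rw [← h1, ← Finset.sum_range_reflect]
  refine Finset.sum_congr rfl fun j hj => ?_
  have hj' : j ≤ d := Nat.lt_succ_iff.mp (Finset.mem_range.mp hj)
  rw [show d + 1 - 1 - j = d - j by omega, Nat.choose_symm hj', Nat.cast_sub hj']
  simp only [zsmul_eq_mul, nsmul_eq_mul, mul_one]
  rw [show y - ((d : ℚ) - j) = y - d + j by ring]
  push_cast
  ring

/-- Serre's formula for the Koszul Euler characteristic. -/
theorem exists_chi_eq_sum [IsNoetherianRing A] [Module.Finite A M] (l : List A) (hl : Dom l M) :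
    ∃ t₀ : ℕ, ∀ t : ℕ, t₀ ≤ t →
      (∑ᶠ i : ℤ, ((i.negOnePow : ℤˣ) : ℤ) * E ([] : List A) (HK M l i)) =
        ∑ r ∈ Finset.range (l.length + 1),
          (-1 : ℤ) ^ r * ((l.length.choose r * HSLib.colen (Ideal.ofList l ^ (t - r) • (⊤ : Submodule A M)) : ℕ) : ℤ) := by
  set K := koszulCx M l with hK
  set d := l.length with hd
  set I := Ideal.ofList l
  have hI : ∀ a ∈ l, a ∈ I := ofList_le_iff.mp le_rfl
  choose c hc using fun i => exists_acyclic (M := M) l i
  refine ⟨(Finset.Icc (-(d : ℤ)) 1).sup c + d + 1, fun t ht => ?_⟩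
  let e : ℤ → ℕ := fun i => (t + i : ℤ).toNat
  let G : ∀ i, Submodule A (K.X i) := fun i => lay (I ^ e i) (K.X i)
  have hG : ∀ i (x : K.X i), x ∈ G i → K.d i (i + 1) x ∈ G (i + 1) := fun i x hx => by
    have h := d_lay hI (e i) hx
    exact Submodule.smul_mono_left (Ideal.pow_le_pow_right (show e (i + 1) ≤ e i + 1 by simp only [e]; omega)) h
  have hac : ∀ i j : ℤ, j + 1 = i → ∀ x : K.X i, x ∈ G i → K.d i (i + 1) x = 0 →
      ∃ w ∈ G j, K.d j i w = x := fun i j hj x hx hxd => by
    obtain rfl : j = i - 1 := by omega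
    by_cases hi : i ∈ Finset.Icc (-(d : ℤ)) 1
    · have hle := Finset.le_sup (f := c) hi
      rw [Finset.mem_Icc] at hi
      have he : e i = e (i - 1) + 1 := by simp only [e]; omega
      refine hc i (e (i - 1)) (by simp only [e]; omega) x hxd ?_
      rw [← he]
      exact hx
    · rw [Finset.mem_Icc] at hi
      haveI := subsingleton_X M l i (by omega)
      exact ⟨0, Submodule.zero_mem _, Subsingleton.elim (α := K.X i) _ _⟩
  -- the truncated complex
  let δ : ∀ i j : ℤ, i + 1 = j → ((K.X i ⧸ G i) →ₗ[A] (K.X j ⧸ G j)) := fun i j h =>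
    Submodule.mapQ _ _ (K.d i j).hom (fun x hx => by subst h; exact hG i x hx)
  let b : ℤ → ℕ∞ := fun i => Module.length A (LinearMap.range (δ i (i + 1) rfl))
  have hsplit : ∀ i, Module.length A (K.X i ⧸ G i) = (Module.length A (HK M l i) + b (i - 1)) + b i := fun i => by
    rw [Module.length_eq_add_of_exact (LinearMap.ker (δ i (i + 1) rfl)).subtype (δ i (i + 1) rfl).rangeRestrict
      (Submodule.subtype_injective _) (LinearMap.surjective_rangeRestrict _)
      (by rw [LinearMap.exact_iff, LinearMap.ker_rangeRestrict, Submodule.range_subtype])]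
    congr 1
    let R := LinearMap.range (δ (i - 1) i (by omega))
    have hR : R ≤ LinearMap.ker (δ i (i + 1) rfl) := by
      rintro _ ⟨x, rfl⟩
      obtain ⟨x, rfl⟩ := Submodule.Quotient.mk_surjective _ x
      show Submodule.Quotient.mk (K.d i (i + 1) (K.d (i - 1) i x)) = 0
      rw [show K.d i (i + 1) (K.d (i - 1) i x) = 0 from
        ConcreteCategory.congr_hom (K.d_comp_d (i - 1) i (i + 1)) x, Submodule.Quotient.mk_zero]
    have hzc : ∀ z : Zmod K i, (G i).mkQ z.1 ∈ LinearMap.ker (δ i (i + 1) rfl) := fun z => by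
      rw [LinearMap.mem_ker]
      show Submodule.Quotient.mk (K.d i (i + 1) z.1) = 0
      rw [zmod_d rfl z, Submodule.Quotient.mk_zero]
    let φ : Zmod K i →ₗ[A] LinearMap.ker (δ i (i + 1) rfl) ⧸ R.comap (LinearMap.ker (δ i (i + 1) rfl)).subtype :=
      (Submodule.mkQ _).comp (((G i).mkQ.comp (Zmod K i).subtype).codRestrict _ hzc)
    have hφ : Function.Surjective φ := fun y => by
      obtain ⟨⟨y, hy⟩, rfl⟩ := Submodule.Quotient.mk_surjective _ y
      obtain ⟨x, rfl⟩ := Submodule.Quotient.mk_surjective _ y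
      have hx : K.d i (i + 1) x ∈ G (i + 1) := (Submodule.Quotient.mk_eq_zero _).mp hy
      obtain ⟨w, hw, hwx⟩ := hac (i + 1) i rfl _ hx (ConcreteCategory.congr_hom (K.d_comp_d i (i + 1) (i + 1 + 1)) x)
      refine ⟨⟨x - w, mem_zmod (by rw [map_sub, hwx, sub_self])⟩, congrArg Submodule.Quotient.mk (Subtype.ext ?_)⟩
      refine (Submodule.Quotient.eq _).mpr ?_
      show x - w - x ∈ G i
      rw [show x - w - x = -w by abel]
      exact Submodule.neg_mem _ hw
    have hker : LinearMap.ker φ = LinearMap.ker (cls K i) := by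
      ext z
      rw [LinearMap.mem_ker, LinearMap.mem_ker, cls_eq_zero (i := i - 1) (by omega)]
      constructor
      · intro hz
        obtain ⟨v, hv⟩ := (Submodule.Quotient.mk_eq_zero _).mp hz
        obtain ⟨v, rfl⟩ := Submodule.Quotient.mk_surjective _ v
        have hm : K.d (i - 1) i v - z.1 ∈ G i := (Submodule.Quotient.eq _).mp hv
        obtain ⟨w, -, hw⟩ := hac i (i - 1) (by omega) _ hm (by
          rw [map_sub, zmod_d rfl z, sub_zero]
          exact ConcreteCategory.congr_hom (K.d_comp_d (i - 1) i (i + 1)) v)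
        exact ⟨v - w, by rw [map_sub, hw, sub_sub_cancel]⟩
      · rintro ⟨v, hv⟩
        exact (Submodule.Quotient.mk_eq_zero _).mpr ⟨Submodule.Quotient.mk v, congrArg Submodule.Quotient.mk hv⟩
    have hb : b (i - 1) = Module.length A R := by
      show Module.length A (LinearMap.range (δ (i - 1) (i - 1 + 1) rfl)) = _
      have : ∀ j (h : i - 1 + 1 = j), Module.length A (LinearMap.range (δ (i - 1) (i - 1 + 1) rfl)) =
          Module.length A (LinearMap.range (δ (i - 1) j h)) := fun j h => by subst h; rfl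
      exact this i (by omega)
    let N₀ : Submodule A (LinearMap.ker (δ i (i + 1) rfl)) := Submodule.comap (LinearMap.ker (δ i (i + 1) rfl)).subtype R
    have hN₀ : Module.length A (LinearMap.ker (δ i (i + 1) rfl)) =
        Module.length A N₀ + Module.length A ((LinearMap.ker (δ i (i + 1) rfl)) ⧸ N₀) :=
      Module.length_eq_add_of_exact (Submodule.subtype N₀) (Submodule.mkQ N₀) N₀.injective_subtype
        N₀.mkQ_surjective (LinearMap.exact_subtype_mkQ N₀)
    rw [hN₀,
      (Submodule.comapSubtypeEquivOfLe hR).length_eq, ← hb, ← (φ.quotKerEquivOfSurjective hφ).length_eq,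
      (Submodule.quotEquivOfEq _ _ hker).length_eq, ((cls K i).quotKerEquivOfSurjective (cls_surjective K i)).length_eq,
      add_comm]
  have hfinM : ∀ s, Module.length A (M ⧸ lay (I ^ s) M) ≠ ⊤ := fun s => HSLib.length_pow_ne_top hl s
  have hfinQ : ∀ i, Module.length A (K.X i ⧸ G i) ≠ ⊤ := fun i => by
    rw [length_quot_lay]
    exact WithTop.mul_ne_top (ENat.coe_ne_top _) (hfinM _)
  let hn : ℤ → ℕ := fun i => (Module.length A (HK M l i)).toNat
  let bn : ℤ → ℕ := fun i => (b i).toNat
  have hq : ∀ i, (((if i ≤ 0 then d.choose (-i).toNat else 0) * HSLib.colen (lay (I ^ e i) M) : ℕ) : ℤ) =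
      (hn i : ℤ) + bn (i - 1) + bn i := fun i => by
    have h := hfinQ i
    rw [hsplit i] at h
    obtain ⟨hab, hc'⟩ := not_or.mp (ENat.add_eq_top.not.mp h)
    obtain ⟨ha', hb'⟩ := not_or.mp (ENat.add_eq_top.not.mp hab)
    have h2 := congrArg ENat.toNat ((length_quot_lay (M := M) (I ^ e i) l i).symm.trans (hsplit i))
    rw [ENat.toNat_mul, ENat.toNat_coe, ENat.toNat_add hab hc', ENat.toNat_add ha' hb'] at h2
    exact_mod_cast h2
  have hb0 : ∀ i, (i < -(d : ℤ) ∨ 0 < i) → bn i = 0 := fun i hi => by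
    haveI := subsingleton_X M l i hi.symm
    haveI : Subsingleton (K.X i ⧸ G i) := (Submodule.mkQ_surjective _).subsingleton
    haveI : Subsingleton (LinearMap.range (δ i (i + 1) rfl)) :=
      (LinearMap.surjective_rangeRestrict (δ i (i + 1) rfl)).subsingleton
    simp only [bn, b, Module.length_eq_zero]
    rfl
  have hsb : (Function.support fun i : ℤ => ((i.negOnePow : ℤˣ) : ℤ) * (bn i : ℤ)).Finite :=
    (Set.finite_Icc (-(d : ℤ)) 0).subset fun i hi => by
      by_contra hne
      simp only [Set.mem_Icc, not_and_or, not_le] at hne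
      exact hi (by simp only [hb0 i hne, Nat.cast_zero, mul_zero])
  have hsh : (Function.support fun i : ℤ => ((i.negOnePow : ℤˣ) : ℤ) * (hn i : ℤ)).Finite :=
    (finite_support_E M l []).subset fun i hi h0 => hi (by
      simp only [E_nil] at h0
      simp only [hn, h0, mul_zero])
  set q : ℤ → ℤ := fun i => ((i.negOnePow : ℤˣ) : ℤ) *
    (((if i ≤ 0 then d.choose (-i).toNat else 0) * HSLib.colen (lay (I ^ e i) M) : ℕ) : ℤ) with hqdef
  have hchi : ∑ᶠ i, q i = ∑ᶠ i : ℤ, ((i.negOnePow : ℤˣ) : ℤ) * E ([] : List A) (HK M l i) := by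
    set g : ℤ → ℤ := fun i => ((i.negOnePow : ℤˣ) : ℤ) * (bn i : ℤ) with hgdef
    have h1 : ∀ i, q i = (((i.negOnePow : ℤˣ) : ℤ) * (hn i : ℤ)) + (g i + -(g (i + -1))) := fun i => by
      simp only [hqdef, hgdef]
      rw [hq i]
      have hs : (((i + -1).negOnePow : ℤˣ) : ℤ) = -((i.negOnePow : ℤˣ) : ℤ) := by
        rw [Int.negOnePow_add, Int.negOnePow_neg, Int.negOnePow_one]
        simp
      rw [hs, show i - 1 = i + -1 by ring]
      ring
    have hs2 : (Function.support fun i : ℤ => -(g (i + -1))).Finite :=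
      ((hsb.preimage (add_left_injective (-1 : ℤ)).injOn)).subset fun i hi => by simpa [hgdef] using hi
    rw [finsum_congr h1, finsum_add_distrib hsh ((hsb.union hs2).subset (Function.support_add _ _)),
      finsum_add_distrib hsb hs2, finsum_neg_distrib,
      show (∑ᶠ i : ℤ, g (i + -1)) = ∑ᶠ i, g i from finsum_comp_equiv (Equiv.addRight (-1 : ℤ)), add_neg_cancel, add_zero]
    rfl
  rw [← hchi, finsum_eq_sum_of_support_subset q (s := (Finset.range (d + 1)).image fun r : ℕ => (-(r : ℤ))) (by
    intro i hi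
    simp only [Finset.coe_image, Set.mem_image, Finset.mem_coe, Finset.mem_range]
    by_contra hne
    push Not at hne
    refine hi ?_
    simp only [hqdef]
    split_ifs with h
    · have hlt : d < (-i).toNat := by
        by_contra hle
        exact hne (-i).toNat (by omega) (by omega)
      rw [Nat.choose_eq_zero_of_lt hlt, zero_mul, Nat.cast_zero, mul_zero]
    · simp)]
  rw [Finset.sum_image fun a _ b _ hab => by simpa using hab]
  refine Finset.sum_congr rfl fun r hr => ?_
  have hr' : r ≤ d := Nat.lt_succ_iff.mp (Finset.mem_range.mp hr)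
  simp only [hqdef]
  rw [negOnePow_neg_natCast, if_pos (by omega), show (-(-(r : ℤ))).toNat = r by simp,
    show e (-(r : ℤ)) = t - r by simp only [e]; omega]

end Groth.Agent.KEulerLib
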